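import Cfsg.Agent.R2.H10.Mon.Top
import Cfsg.Agent.R2.H4.Mon.MonFr
import Cfsg.Agent.R2.M7.Geo

/-!
# Assembly of S5539 (helper10)

* `exists_fr_afacts` : a frame of the Monster with the facts on the class `2A`;
* `many` : at least 7 conjugates of `z`;
* `asm` : the statement from `MainC` and `MainB`.
-/

set_option autoImplicit false

open Cfsg

namespace Cfsg.Agent.R2.H10.Mon.Asm

open Subgroup
open Cfsg.Agent.H251
open Cfsg.Agent.Co2Type.Quad
open Cfsg.Agent.MonsterU.Lam2 (L2)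
open Cfsg.Agent.MonsterU.Ch
open Cfsg.Agent.R2.H4.Mon.Frm
open Cfsg.Agent.R2.H10.Mon.Red
open Cfsg.Agent.R2.H10.Mon.TwoA
open Cfsg.Agent.R2.H10.Mon.Top
open Cfsg.Agent.R2.M7 (Geo)
open Cfsg.Spor (Co1)

section frame

open Cfsg.Agent.MonsterX Cfsg.Agent.MonsterX.InstData Cfsg.Agent.MonsterX.MainPack Cfsg.Agent.MonsterX.MainSimple
open Cfsg.Agent.R2.H4.Mon.MonFr
open Cfsg.Agent.LThreeMB (KChart.Cent KChart.pi KChart.chart KChart.pi_eq)

/-- the frame of the model with the facts on `2A` -/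
theorem exists_model : ∃ (Q : Subgroup ↥InstData.M.G) (z : ↥InstData.M.G) (eta : ↥InstData.M.G → L2)
    (pi : Subgroup.centralizer ({z} : Set ↥InstData.M.G) →* Co1) (y τ : ↥InstData.M.G),
      Fr Q z eta pi y τ ∧ AFacts z := by
  have := finite_model
  have := simple_model
  have h := KChart.chart KDone.lft hc
  obtain ⟨g, h1, h2, -⟩ := Cfsg.Agent.MonsterU.Fused.exists_type_four h
  obtain ⟨s, τ, h3, h4, h5⟩ := Cfsg.Agent.MonsterU.AmalSideOf.exists_frame h h1 h2 ⟨g, rfl⟩
  exact ⟨_, _, _, _, _, τ,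
    { ch := h.smul s
      hyQ := h1
      hy := h5
      τz := h3
      τy := h4
      noB := noB_smul noB_model s }, afacts_model⟩

/-- **The frame of the Monster with the facts on `2A`.** -/
theorem exists_fr_afacts : ∃ (Q : Subgroup Spor.Monster) (z : Spor.Monster) (eta : Spor.Monster → L2)
    (pi : Subgroup.centralizer ({z} : Set Spor.Monster) →* Co1) (y τ : Spor.Monster),
      Fr Q z eta pi y τ ∧ AFacts z := by
  obtain ⟨Q, z, eta, pi, y, τ, F, A⟩ := exists_model
  obtain ⟨e⟩ := Cfsg.Agent.MonsterP.Equiv.equiv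
  exact ⟨_, _, _, _, _, _, fr_transport e F, afacts_map e.symm A⟩

end frame

/-- conjugation on the class of `z` -/
def act {G : Type*} [Group G] (z : G) : G →* Equiv.Perm {c : G // TwoB z c} where
  toFun g :=
    { toFun := fun c => ⟨g * c * g⁻¹, c.2.conj g⟩
      invFun := fun c => ⟨g⁻¹ * c * g, by
        have := c.2.conj g⁻¹
        rwa [inv_inv] at this⟩
      left_inv := fun c => Subtype.ext (by show g⁻¹ * (g * c * g⁻¹) * g = c; group)
      right_inv := fun c => Subtype.ext (by show g * (g⁻¹ * c * g) * g⁻¹ = c; group) }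
  map_one' := by
    ext c
    show 1 * (c : G) * 1⁻¹ = c
    group
  map_mul' g h := by
    ext c
    show g * h * (c : G) * (g * h)⁻¹ = g * (h * c * h⁻¹) * g⁻¹
    group

/-- **At least 7 conjugates.** -/
theorem many {G : Type*} [Group G] [Finite G] [IsSimpleGroup G] (hcard : 720 < Nat.card G) {z y τ : G}
    (hzy : y ≠ z) (hτ : τ * z * τ⁻¹ = y) : 7 ≤ Nat.card {c : G // TwoB z c} := by
  by_contra hlt
  push Not at hlt
  have hinj : Function.Injective (act z) := by
    rw [← MonoidHom.ker_eq_bot_iff]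
    rcases (inferInstance : (act z).ker.Normal).eq_bot_or_eq_top with h | h
    · exact h
    · exfalso
      apply hzy
      have h1 : τ ∈ (act z).ker := by rw [h]; trivial
      have h2 : act z τ ⟨z, TwoB.self z⟩ = ⟨z, TwoB.self z⟩ := by
        rw [(MonoidHom.mem_ker).1 h1]; rfl
      have h3 : τ * z * τ⁻¹ = z := congrArg Subtype.val h2
      rw [← hτ, h3]
  have h1 := Nat.card_le_card_of_injective _ hinj
  rw [Nat.card_perm] at h1
  have h2 : (Nat.card {c : G // TwoB z c}).factorial ≤ Nat.factorial 6 :=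
    Nat.factorial_le (by omega)
  have h3 : Nat.factorial 6 = 720 := by decide
  omega

/-- **S5539 from the main argument and the singular subgroups.** -/
theorem asm_gen {G : Type*} [Group G] [Finite G] {Q : Subgroup G} {z : G} (hL : Large Q z) (hQ : IsPGroup 2 Q)
    (A : AFacts z) (h7 : 7 ≤ Nat.card {c : G // TwoB z c}) (Γ : Geo G) (hPt : ∀ c, c ∈ Γ.Pt ↔ TwoB z c)
    (hC : Γ.MainC) (hB : Γ.MainB) :
    ∃ S : Finset (Subgroup G), S.card = 7 ∧ (∀ H ∈ S, IsTwoLocal H) ∧
      ∀ H : Subgroup G, IsMaximalTwoLocal H → ∃ H₀ ∈ S, ∃ g : G, H = H₀.map (MulAut.conj g).toMonoidHom := by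
  classical
  obtain ⟨L, hL1, hArk, hSing⟩ := hB
  refine final hL hQ A h7 (Finset.univ.image L) ?_ ?_ ?_
  · refine Finset.card_image_le.trans ?_
    rw [Finset.card_univ, Fintype.card_fin]
  · intro F hF
    obtain ⟨i, -, rfl⟩ := Finset.mem_image.1 hF
    exact ⟨(hL1 i).2, (hL1 i).1⟩
  · intro H T Z D hpt
    have hsit : Γ.Sit T Z :=
      { two := D.hT
        comm := fun x hx t ht => (D.comm x hx t ht).symm
        ab := fun x hx y hy => D.comm x hx y (D.hZT hy)
        sq := D.sq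
        all := fun x hx h => D.closed hpt x hx fun t ht => (h t ht).symm
        pt := by
          obtain ⟨c, hc, hc'⟩ := hpt
          exact ⟨c, hc, (hPt c).2 hc'⟩ }
    rcases hC T Z hsit with h | ⟨F, hFb, hFZ, hFS, hFinv⟩
    · obtain ⟨g, hg⟩ := hArk Z h
      refine ⟨L 4, Finset.mem_image_of_mem _ (Finset.mem_univ _), g, ?_⟩
      rw [D.hNZ, hg]
    · obtain ⟨i, g, hi⟩ := hSing F hFb hFS
      refine ⟨L i, Finset.mem_image_of_mem _ (Finset.mem_univ _), g, ?_⟩
      refine D.norm _ ((hL1 i).2.map _) ?_ ?_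
      · intro h
        exact (hL1 i).1 ((cj_eq_bot_iff).1 h)
      · intro x hx
        have hxZ : ∀ a ∈ Z, x * a * x⁻¹ ∈ Z := by
          intro a ha
          have h1 : x ∈ normalizer (Z : Set G) := by rw [← D.hNZ]; exact hx
          exact (mem_normalizer_iff.1 h1 a).1 ha
        have hx' := H.inv_mem hx
        have hxZ' : ∀ a ∈ Z, x⁻¹ * a * x⁻¹⁻¹ ∈ Z := by
          intro a ha
          have h1 : x⁻¹ ∈ normalizer (Z : Set G) := by rw [← D.hNZ]; exact hx'
          exact (mem_normalizer_iff.1 h1 a).1 ha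
        have h1 := hi x (hFinv x hxZ)
        have h2 := hi x⁻¹ (hFinv x⁻¹ hxZ')
        rw [mem_normalizer_iff]
        intro a
        refine ⟨fun ha => h1 a ha, fun ha => ?_⟩
        have h3 := h2 _ ha
        have e : x⁻¹ * (x * a * x⁻¹) * x⁻¹⁻¹ = a := by group
        rwa [e] at h3

/-- **S5539** from a geometry for each frame. -/
theorem asm (hmain : ∀ (Q : Subgroup Spor.Monster) (z : Spor.Monster) (eta : Spor.Monster → L2)
    (pi : Subgroup.centralizer ({z} : Set Spor.Monster) →* Co1) (y τ : Spor.Monster), Fr Q z eta pi y τ →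
      ∃ Γ : Geo Spor.Monster, (∀ c, c ∈ Γ.Pt ↔ TwoB z c) ∧ Γ.MainC ∧ Γ.MainB) :
    ∃ S : Finset (Subgroup Cfsg.Spor.Monster), S.card = 7 ∧ (∀ H ∈ S, Cfsg.IsTwoLocal H) ∧
      ∀ H : Subgroup Cfsg.Spor.Monster, Cfsg.IsMaximalTwoLocal H →
        ∃ H₀ ∈ S, ∃ g : Cfsg.Spor.Monster, H = H₀.map (MulAut.conj g).toMonoidHom := by
  have := Cfsg.Agent.R2.H4.Mon.MonFr.finite
  have := Cfsg.Agent.R2.H4.Mon.MonFr.simple
  obtain ⟨Q, z, eta, pi, y, τ, F, A⟩ := exists_fr_afacts
  obtain ⟨Γ, hPt, hC, hB⟩ := hmain Q z eta pi y τ F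
  refine asm_gen F.ch.large ?_ A ?_ Γ hPt hC hB
  · exact IsPGroup.of_card F.ch.card_Q
  · refine many ?_ F.y_ne F.τz
    rw [Cfsg.Agent.R2.H4.Mon.MonFr.card]
    norm_num

end Cfsg.Agent.R2.H10.Mon.Asm
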