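import Cfsg.Agent.H813.OctLat
import Cfsg.Agent.H848.OctFix
import Cfsg.Agent.H848.TenA
import Cfsg.Agent.MonsterU.AmalSideOf
import Cfsg.Agent.SporadicA.OctadFix
import Cfsg.Agent.R2.H4.Mon.GeoInst

/-!
# Two octads refined by two sextets, and the pointwise stabiliser of the classes on two disjoint octads (helper10)

* `disj` : two different octads with two classes of type 4 in `W8 o₁ ⊓ W8 o₂ ⊓ W12`, different modulo `W1`, are disjoint;
* `W8_le` : `W8 o₁ ≤ W16 o₂` for disjoint octads;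
* `fix_two` : the pointwise stabiliser of `W8 o₁` and `W8 o₂`.
-/

set_option autoImplicit false

namespace Cfsg.Agent.R2.H10.Mon.Disj

open Cfsg
open Cfsg.Agent.SporadicA.Co0Mono hiding smul_add smul_sub smul_neg smul_zero
open Cfsg.Agent.SporadicA.Co1Simple
open Cfsg.Agent.LeechMat.Core
open Cfsg.Agent.SporadicStructure.Co0Base (e8 e8_coe)
open Cfsg.Agent.SporadicStructure.LeechBase (zmod2_cases)
open Cfsg.Agent.CoOneType.SignFacts
open Cfsg.Agent.CoOneType.CoOneE (pr pr_surjective E mem_E sup_inj sup_add wt_add wt_eq_zero sup_zero allOne_add_self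
  sup_wordPerm)
open Cfsg.Agent.MonsterU.Lam2
open Cfsg.Agent.MonsterU.CoFrame
open Cfsg.Agent.MonsterU.CoFrameAct
open Cfsg.Agent.MonsterU.CoFrameL2
open Cfsg.Agent.MonsterU.CoFrameSep (mem_code_of_orth eq_zero_of_lt)
open Cfsg.Agent.MonsterU.CoFrameF (pr_eq_one exists_of_mem_F)
open Cfsg.Agent.H848.TrioU
open Cfsg.Agent.H848.Oct
open Cfsg.Agent.H848.OctFix
open Cfsg.Spor (Co1)

/-! ### Types of the duads -/

theorem type_dd {i j : GolayPt} (h : i ≠ j) : IsType 2 (dd i j) := by
  refine ⟨duad i j, ?_, rfl⟩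
  unfold sqNorm
  have h1 : ∀ k : GolayPt, ((duad i j : leechLattice) : GolayPt → ℤ) k ^ 2 =
      (if k = i then 16 else 0) + (if k = j then 16 else 0) := by
    intro k
    rw [duad_coe]
    by_cases hi : k = i
    · have hj : k ≠ j := fun h2 => h (by rw [← hi, h2])
      rw [if_pos hi, if_neg hj, if_pos hi, if_neg hj]; norm_num
    · rw [if_neg hi, if_neg hi]
      by_cases hj : k = j
      · rw [if_pos hj, if_pos hj]; norm_num
      · rw [if_neg hj, if_neg hj]; norm_num
  simp only [h1, Finset.sum_add_distrib, Finset.sum_ite_eq', Finset.mem_univ, if_true]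
  norm_num

theorem type_dd' {i j : GolayPt} (h : i ≠ j) : IsType 2 (dd i j + f0) := by
  have hf : f0 = cl (e8 j) := (cong_iff_cl _ _).1 (cong_e8 none j)
  refine ⟨duad i j + e8 j, ?_, by rw [map_add, ← hf]; rfl⟩
  unfold sqNorm
  have h1 : ∀ k : GolayPt, (((duad i j + e8 j : leechLattice)) : GolayPt → ℤ) k ^ 2 =
      (if k = i then 16 else 0) + (if k = j then 16 else 0) := by
    intro k
    have e : ((duad i j + e8 j : leechLattice) : GolayPt → ℤ) k =
        ((duad i j : leechLattice) : GolayPt → ℤ) k + ((e8 j : leechLattice) : GolayPt → ℤ) k := rfl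
    rw [e, duad_coe, e8_coe, Pi.single_apply]
    by_cases hi : k = i
    · have hj : k ≠ j := fun h2 => h (by rw [← hi, h2])
      rw [if_pos hi, if_neg hj, if_neg hj, if_pos hi, if_neg hj]; norm_num
    · rw [if_neg hi, if_neg hi]
      by_cases hj : k = j
      · rw [if_pos hj, if_pos hj, if_pos hj]; norm_num
      · rw [if_neg hj, if_neg hj, if_neg hj]; norm_num
  simp only [h1, Finset.sum_add_distrib, Finset.sum_ite_eq', Finset.mem_univ, if_true]
  norm_num

/-- classes of `W12` with equal pairing -/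
theorem eq_or_of_pairL {x y : L2} (hx : x ∈ W12) (hy : y ∈ W12) (h : ∀ c, pairL x c = pairL y c) :
    x = y ∨ x = y + f0 := by
  have h1 : x + y ∈ W1 := by
    rw [mem_W1_iff_pairL (W12.add_mem hx hy)]
    intro c
    rw [pairL_add, h c]
    exact CharTwo.add_self_eq_zero _
  rcases (mem_W1 _).1 h1 with h2 | h2
  · exact Or.inl (eq_of_add_eq_zero h2)
  · right
    rw [← h2, ← add_assoc, add_comm y x, add_assoc, add_self, add_zero]

theorem sum_chi (A : Finset GolayPt) (c : GolayPt → ZMod 2) :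
    ∑ i, (if i ∈ A then (1 : ZMod 2) else 0) * c i = ∑ i ∈ A, c i := by
  classical
  simp only [ite_mul, one_mul, zero_mul]
  rw [Finset.sum_ite_mem, Finset.univ_inter]

/-- codewords are orthogonal -/
theorem sum_sup (c o : golayCode) : ∑ i ∈ sup o, (c : GolayPt → ZMod 2) i = 0 := by
  have h1 : ∑ i, (o : GolayPt → ZMod 2) i * (c : GolayPt → ZMod 2) i = 0 :=
    Cfsg.Agent.SporadicA.GolayWeight.dot_eq_zero o.2 c.2
  have h2 := sum_chi (sup o) (c : GolayPt → ZMod 2)
  have h3 : ∑ i, (if i ∈ sup o then (1 : ZMod 2) else 0) * (c : GolayPt → ZMod 2) i =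
      ∑ i, (o : GolayPt → ZMod 2) i * (c : GolayPt → ZMod 2) i := by
    refine Finset.sum_congr rfl fun i _ => ?_
    rcases zmod2_cases ((o : GolayPt → ZMod 2) i) with h | h
    · rw [if_neg ((notMem_sup o i).2 h), h]
    · rw [if_pos ((mem_sup o i).2 h), h]
  exact h2.symm.trans (h3.trans h1)

/-- the tetrad of a class of type 4 -/
theorem tetrad {o : golayCode} (ho : wt o = 8) {x : L2} (hx : x ∈ W8 o) (hx12 : x ∈ W12) (hx1 : x ∉ W1)
    (h2 : ¬ IsType 2 x) {p : GolayPt} (hp : p ∈ sup o) :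
    ∃ A ⊆ sup o, A.card = 4 ∧ p ∈ A ∧ ∀ c : golayCode, pairL x c = ∑ i ∈ A, (c : GolayPt → ZMod 2) i := by
  classical
  obtain ⟨v, hv, rfl⟩ := Cfsg.Agent.H813.OctLat.exists_supp hx
  have hv12 := cl_mem_W12.1 hx12
  obtain ⟨p0, hp0⟩ : ∃ p, p ∉ sup o := by
    by_contra hn
    push Not at hn
    have h1 : sup o = Finset.univ := Finset.eq_univ_of_forall hn
    have h3 : (sup o).card = 8 := ho
    have h4 : (Finset.univ : Finset GolayPt).card = 24 := by decide
    rw [h1, h4] at h3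
    omega
  have h4 : ∀ i, (4 : ℤ) ∣ (v : GolayPt → ℤ) i := by
    intro i
    have h1 := ((mem_V12 v).1 hv12).2 i p0
    rwa [hv p0 hp0, sub_zero] at h1
  choose w hw using h4
  set A : Finset GolayPt := Finset.univ.filter fun i => ((w i : ℤ) : ZMod 2) = 1 with hA
  have hpair : ∀ c : golayCode, pairL (cl v) c = ∑ i ∈ A, (c : GolayPt → ZMod 2) i := by
    intro c
    rw [pairL_cl, pair_of_four hw]
    refine Eq.trans ?_ (sum_chi A _)
    refine Finset.sum_congr rfl fun i _ => ?_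
    rcases zmod2_cases ((w i : ℤ) : ZMod 2) with h | h
    · rw [h, if_neg]
      rw [hA, Finset.mem_filter, h]
      exact fun h3 => zero_ne_one h3.2
    · rw [h, if_pos]
      rw [hA, Finset.mem_filter]
      exact ⟨Finset.mem_univ _, h⟩
  have hAo : A ⊆ sup o := by
    intro i hi
    by_contra hio
    rw [hA, Finset.mem_filter] at hi
    have h1 := hw i
    rw [hv i hio] at h1
    have h3 : w i = 0 := by omega
    rw [h3] at hi
    exact zero_ne_one hi.2
  -- the complement
  have hcomp : ∀ c : golayCode, pairL (cl v) c = ∑ i ∈ sup o \ A, (c : GolayPt → ZMod 2) i := by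
    intro c
    have h1 := Finset.sum_sdiff hAo (f := fun i => (c : GolayPt → ZMod 2) i)
    rw [sum_sup c o, ← hpair c] at h1
    have key : ∀ a b : ZMod 2, a + b = 0 → b = a := by decide
    exact key _ _ h1
  -- even order
  have heven : (A.card : ZMod 2) = 0 := by
    have h1 : pairL (cl v) o = 0 := (mem_W16_iff hx12).1 (W8_le_W16 o hx)
    rw [hpair o] at h1
    have h3 : ∑ i ∈ A, (o : GolayPt → ZMod 2) i = ∑ i ∈ A, (1 : ZMod 2) :=
      Finset.sum_congr rfl fun i hi => (mem_sup o i).1 (hAo hi)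
    rw [h3, Finset.sum_const, nsmul_eq_mul, mul_one] at h1
    exact h1
  have hcard : (sup o \ A).card + A.card = 8 := by
    rw [Finset.card_sdiff_add_card_eq_card hAo]; exact ho
  -- the cases of two elements
  have htwo : ∀ B : Finset GolayPt, B.card = 2 → (∀ c : golayCode, pairL (cl v) c = ∑ i ∈ B, (c : GolayPt → ZMod 2) i) →
      False := by
    intro B hB hBp
    obtain ⟨i, j, hij, rfl⟩ := Finset.card_eq_two.1 hB
    have h1 : ∀ c, pairL (cl v) c = pairL (dd i j) c := by
      intro c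
      rw [hBp c, Finset.sum_pair hij, pairL_dd]
    rcases eq_or_of_pairL hx12 (dd_mem i j) h1 with h3 | h3
    · apply h2; rw [h3]; exact type_dd hij
    · apply h2; rw [h3]; exact type_dd' hij
  have hzero : ∀ B : Finset GolayPt, B.card = 0 → (∀ c : golayCode, pairL (cl v) c = ∑ i ∈ B, (c : GolayPt → ZMod 2) i) →
      False := by
    intro B hB hBp
    rw [Finset.card_eq_zero] at hB
    subst hB
    apply hx1
    rw [mem_W1_iff_pairL hx12]
    intro c
    rw [hBp c, Finset.sum_empty]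
  have hev : Even A.card := (ZMod.natCast_eq_zero_iff_even).1 heven
  have hA4 : A.card = 4 := by
    by_contra h
    obtain ⟨k, hk⟩ := hev
    have h5 : k = 0 ∨ k = 1 ∨ k = 3 ∨ k = 4 := by omega
    rcases h5 with rfl | rfl | rfl | rfl
    · exact hzero A (by omega) hpair
    · exact htwo A (by omega) hpair
    · exact htwo (sup o \ A) (by omega) hcomp
    · exact hzero (sup o \ A) (by omega) hcomp
  by_cases hpA : p ∈ A
  · exact ⟨A, hAo, hA4, hpA, hpair⟩
  · exact ⟨sup o \ A, Finset.sdiff_subset, by omega, Finset.mem_sdiff.2 ⟨hp, hpA⟩, hcomp⟩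

theorem not_type_two {x : L2} (h4 : IsType 4 x) {o : golayCode} (Fo : Cfsg.Agent.H848.TenA.Facts o) : ¬ IsType 2 x := by
  intro h2
  obtain ⟨g, rfl⟩ := IsType.trans (Or.inr (Or.inr rfl)) Cfsg.Agent.MonsterU.AmalSideOf.type_f0 h4
  have h3 : IsType 2 f0 := by
    have h5 := h2.smul g⁻¹
    rwa [inv_smul_smul] at h5
  have h6 := Cfsg.Agent.H848.TenA.q8_f0 Fo
  unfold q8 at h6
  rw [if_pos h3] at h6
  exact one_ne_zero h6

/-- **Two octads with two common sextets are disjoint.** -/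
theorem disj {o₁ o₂ : golayCode} (h₁ : wt o₁ = 8) (h₂ : wt o₂ = 8) (hne : o₁ ≠ o₂) {x y : L2}
    (hx₁ : x ∈ W8 o₁) (hx₂ : x ∈ W8 o₂) (hx12 : x ∈ W12) (hx1 : x ∉ W1) (hx : ¬ IsType 2 x)
    (hy₁ : y ∈ W8 o₁) (hy₂ : y ∈ W8 o₂) (hy12 : y ∈ W12) (hy1 : y ∉ W1) (hy : ¬ IsType 2 y) (hxy : x + y ∉ W1) :
    sup o₁ ∩ sup o₂ = ∅ := by
  classical
  by_contra hn
  obtain ⟨p, hp⟩ := Finset.nonempty_iff_ne_empty.2 hn
  rw [Finset.mem_inter] at hp
  have hle : (sup o₁ ∩ sup o₂).card ≤ 4 := by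
    have h3 := wt_add o₁ o₂
    rcases wt_cases (o₁ + o₂) with h4 | h4
    · exfalso
      apply hne
      have h5 := wt_eq_zero _ h4
      apply Subtype.ext
      have h6 : (o₁ : GolayPt → ZMod 2) + o₂ = 0 := congrArg Subtype.val h5
      funext i
      have h7 := congrFun h6 i
      exact CharTwo.add_eq_zero.1 h7
    · omega
  have key : ∀ {x : L2}, x ∈ W8 o₁ → x ∈ W8 o₂ → x ∈ W12 → x ∉ W1 → ¬ IsType 2 x →
      ∀ c : golayCode, pairL x c = ∑ i ∈ sup o₁ ∩ sup o₂, (c : GolayPt → ZMod 2) i := by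
    intro x hx₁ hx₂ hx12 hx1 hx
    obtain ⟨A, hAo, hA4, hpA, hA⟩ := tetrad h₁ hx₁ hx12 hx1 hx hp.1
    obtain ⟨B, hBo, hB4, hpB, hB⟩ := tetrad h₂ hx₂ hx12 hx1 hx hp.2
    set w : GolayPt → ZMod 2 := fun i => (if i ∈ A then (1 : ZMod 2) else 0) + (if i ∈ B then (1 : ZMod 2) else 0)
      with hw
    have hwc : w ∈ golayCode := by
      apply mem_code_of_orth
      intro c
      simp only [hw, add_mul, Finset.sum_add_distrib]
      rw [sum_chi, sum_chi, ← hA c, ← hB c]
      exact CharTwo.add_self_eq_zero _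
    have h0 := eq_zero_of_lt hwc (A ∪ B) (by
      intro i hi
      by_contra hni
      rw [Finset.mem_union, not_or] at hni
      apply hi
      simp only [hw, if_neg hni.1, if_neg hni.2, add_zero]) (by
      have h3 := Finset.card_union_add_card_inter A B
      have h4 : 0 < (A ∩ B).card := Finset.card_pos.2 ⟨p, Finset.mem_inter.2 ⟨hpA, hpB⟩⟩
      omega)
    have hAB : A = B := by
      ext i
      have h1 := congrFun h0 i
      simp only [hw, Pi.zero_apply] at h1
      by_cases hiA : i ∈ A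
      · by_cases hiB : i ∈ B
        · simp [hiA, hiB]
        · rw [if_pos hiA, if_neg hiB, add_zero] at h1
          exact absurd h1 one_ne_zero
      · by_cases hiB : i ∈ B
        · rw [if_neg hiA, if_pos hiB, zero_add] at h1
          exact absurd h1 one_ne_zero
        · simp [hiA, hiB]
    have hAe : A = sup o₁ ∩ sup o₂ := by
      apply Finset.eq_of_subset_of_card_le
      · intro i hi
        exact Finset.mem_inter.2 ⟨hAo hi, hBo (hAB ▸ hi)⟩
      · omega
    rw [← hAe]
    exact hA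
  apply hxy
  rw [mem_W1_iff_pairL (W12.add_mem hx12 hy12)]
  intro c
  rw [pairL_add, key hx₁ hx₂ hx12 hx1 hx c, key hy₁ hy₂ hy12 hy1 hy c]
  exact CharTwo.add_self_eq_zero _

/-- the classes on an octad are fixed by the sign change on a disjoint octad -/
theorem W8_le {o₁ o₂ : golayCode} (h : sup o₁ ∩ sup o₂ = ∅) : W8 o₁ ≤ W16 o₂ := by
  intro x hx
  obtain ⟨v, hv, rfl⟩ := Cfsg.Agent.H813.OctLat.exists_supp hx
  rw [mem_W16, eps, pr_smul_cl]
  congr 1
  rw [sign_fixed_iff]
  intro i hi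
  apply hv
  intro hi'
  have : i ∈ sup o₁ ∩ sup o₂ := Finset.mem_inter.2 ⟨hi', hi⟩
  rw [h] at this
  exact Finset.notMem_empty i this

/-! ### The pointwise stabiliser -/

theorem dd_mem_W8 {o : golayCode} (ho : wt o = 8) {i j : GolayPt} (hi : i ∈ sup o) (hj : j ∈ sup o) : dd i j ∈ W8 o := by
  apply Cfsg.Agent.H813.OctLat.mem_W8_of_supp ho
  intro k hk
  have hki : k ≠ i := fun h => hk (h ▸ hi)
  have hkj : k ≠ j := fun h => hk (h ▸ hj)
  rw [duad_coe, if_neg hki, if_neg hkj]
  norm_num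

theorem key_dd {σ : M24} {i j : GolayPt} (hij : i ≠ j)
    (h : ∀ d, pairL (dd i j) (wordPerm σ d) = pairL (dd i j) d)
    (hji : (σ : Equiv.Perm GolayPt).symm j ≠ i) : (σ : Equiv.Perm GolayPt).symm i = i := by
  classical
  by_contra hne
  set w : GolayPt → ZMod 2 := fun k => (if k = (σ : Equiv.Perm GolayPt).symm i then 1 else 0) +
    (if k = (σ : Equiv.Perm GolayPt).symm j then 1 else 0) + (if k = i then 1 else 0) +
    (if k = j then 1 else 0) with hwdef
  have hwc : w ∈ golayCode := by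
    apply mem_code_of_orth
    intro c
    have h1 := h c
    rw [pairL_dd, pairL_dd, wordPerm_apply, wordPerm_apply] at h1
    have h5 : ∑ k, w k * (c : GolayPt → ZMod 2) k =
        (c : GolayPt → ZMod 2) ((σ : Equiv.Perm GolayPt).symm i) +
        (c : GolayPt → ZMod 2) ((σ : Equiv.Perm GolayPt).symm j) +
        ((c : GolayPt → ZMod 2) i + (c : GolayPt → ZMod 2) j) := by
      simp only [hwdef, add_mul, ite_mul, one_mul, zero_mul, Finset.sum_add_distrib,
        Finset.sum_ite_eq', Finset.mem_univ, if_true]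
      ring
    rw [h5, h1]
    exact CharTwo.add_self_eq_zero _
  have h0 := eq_zero_of_lt hwc {(σ : Equiv.Perm GolayPt).symm i, (σ : Equiv.Perm GolayPt).symm j, i, j} (by
    intro k hk
    by_contra hkn
    simp only [Finset.mem_insert, Finset.mem_singleton, not_or] at hkn
    apply hk
    simp only [hwdef, if_neg hkn.1, if_neg hkn.2.1, if_neg hkn.2.2.1, if_neg hkn.2.2.2, add_zero])
    (by
      have := Finset.card_le_four (a := (σ : Equiv.Perm GolayPt).symm i)
        (b := (σ : Equiv.Perm GolayPt).symm j) (c := i) (d := j)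
      omega)
  have h1 := congrFun h0 i
  simp only [hwdef, if_neg (Ne.symm hne), if_neg (Ne.symm hji), if_neg hij, Pi.zero_apply,
    zero_add, add_zero] at h1
  exact absurd h1 (by decide)

/-- the permutation part fixes the points of the octad -/
theorem perm_fix {o : golayCode} (ho : wt o = 8) {c : golayCode} {σ : M24}
    (h : ∀ x ∈ W8 o, pr (signCo0 c * permCo0 σ) • x = x) {i : GolayPt} (hi : i ∈ sup o) :
    (σ : Equiv.Perm GolayPt) i = i := by
  classical
  have hall : ∀ i ∈ sup o, (σ : Equiv.Perm GolayPt).symm i = i := by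
    intro i hi
    obtain ⟨j, hj, hj1, hj2⟩ : ∃ j ∈ sup o, j ≠ i ∧ j ≠ (σ : Equiv.Perm GolayPt) i := by
      by_contra hn
      push Not at hn
      have h1 : sup o ⊆ {i, (σ : Equiv.Perm GolayPt) i} := by
        intro j hj
        rw [Finset.mem_insert, Finset.mem_singleton]
        by_cases hji : j = i
        · exact Or.inl hji
        · exact Or.inr (hn j hj hji)
      have h2 := Finset.card_le_card h1
      have h3 := Finset.card_le_two (a := i) (b := (σ : Equiv.Perm GolayPt) i)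
      have h4 : (sup o).card = 8 := ho
      omega
    refine key_dd (Ne.symm hj1) (fun d => ?_) fun h1 => hj2 ?_
    · have h2 := pairL_sp (dd_mem i j) c σ d
      rw [h _ (dd_mem_W8 ho hi hj)] at h2
      exact h2
    · rw [← h1, Equiv.apply_symm_apply]
  have h1 := hall i hi
  conv_lhs => rw [← h1]
  rw [Equiv.apply_symm_apply]

/-- an element of `M24` fixing the points of an octad and another point -/
theorem eq_one_of_fix {o : golayCode} (ho : wt o = 8) {σ : M24} (h : ∀ i ∈ sup o, (σ : Equiv.Perm GolayPt) i = i)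
    {p : GolayPt} (hp : p ∉ sup o) (hσp : (σ : Equiv.Perm GolayPt) p = p) : σ = 1 := by
  obtain ⟨g, hg, hgo⟩ := Cfsg.Agent.SporadicA.OctadStab.exists_smul_eq_oct0 ((Cfsg.Agent.CoOneType.CoOneE.sup_mem_octads o).2 ho)
  have hgp : g p ∉ Cfsg.Agent.SporadicA.OctadStab.oct0 := by
    rw [← hgo]
    intro h1
    rw [Finset.mem_smul_finset] at h1
    obtain ⟨q, hq, hqp⟩ := h1
    have h2 : q = p := g.injective hqp
    exact hp (h2 ▸ hq)
  obtain ⟨t, ht, htfix, htp, -⟩ := Cfsg.Agent.SporadicA.OctadFix.exists_trans hgp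
  have h3 := Cfsg.Agent.SporadicA.OctadFix.eq_one_of_fix (g := t⁻¹ * (g * σ * g⁻¹) * t)
    (M24.mul_mem (M24.mul_mem (M24.inv_mem ht) (M24.mul_mem (M24.mul_mem hg σ.2) (M24.inv_mem hg))) ht)
    (by
      intro x hx
      have h4 : t x = x := htfix x hx
      have h5 : (g⁻¹ : Equiv.Perm GolayPt) x ∈ sup o := by
        rw [← hgo, Finset.mem_smul_finset] at hx
        obtain ⟨q, hq, hqx⟩ := hx
        have h6 : g q = x := hqx
        rw [← h6]
        simpa using hq
      have h6 : (σ : Equiv.Perm GolayPt) ((g⁻¹ : Equiv.Perm GolayPt) x) = (g⁻¹ : Equiv.Perm GolayPt) x := h _ h5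
      rw [Equiv.Perm.mul_apply, Equiv.Perm.mul_apply, Equiv.Perm.mul_apply, Equiv.Perm.mul_apply, h4, h6,
        Equiv.Perm.inv_eq_iff_eq, h4]
      simp)
    (by
      have e : (g⁻¹ : Equiv.Perm GolayPt) (g p) = p := by simp
      rw [Equiv.Perm.mul_apply, Equiv.Perm.mul_apply, Equiv.Perm.mul_apply, Equiv.Perm.mul_apply, htp,
        e, hσp, Equiv.Perm.inv_eq_iff_eq, htp])
  apply Subtype.ext
  show (σ : Equiv.Perm GolayPt) = 1
  calc (σ : Equiv.Perm GolayPt) = g⁻¹ * (t * (t⁻¹ * (g * σ * g⁻¹) * t) * t⁻¹) * g := by group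
    _ = 1 := by rw [h3]; group

/-- the word is constant on the octad -/
theorem sign_const {o : golayCode} (ho : wt o = 8) {c : golayCode} (h : ∀ x ∈ W8 o, pr (signCo0 c) • x = x)
    {i j : GolayPt} (hi : i ∈ sup o) (hj : j ∈ sup o) : (c : GolayPt → ZMod 2) i = (c : GolayPt → ZMod 2) j := by
  have h3 := h (dd i j) (dd_mem_W8 ho hi hj)
  rw [sign_smul (dd_mem i j), pairL_dd] at h3
  have h4 : (c : GolayPt → ZMod 2) i + (c : GolayPt → ZMod 2) j = 0 := by
    by_contra h5
    rw [if_neg h5] at h3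
    exact f0_ne (add_eq_left.1 h3)
  exact CharTwo.add_eq_zero.1 h4

/-- after adding the octad, the word vanishes on it -/
theorem exists_bit {o : golayCode} (ho : wt o = 8) {c : golayCode}
    (h : ∀ i ∈ sup o, ∀ j ∈ sup o, (c : GolayPt → ZMod 2) i = (c : GolayPt → ZMod 2) j) :
    sup c ∩ sup o = ∅ ∨ sup (c + o) ∩ sup o = ∅ := by
  obtain ⟨i, hi⟩ : (sup o).Nonempty := by
    rw [← Finset.card_pos]; unfold wt at ho; omega
  rcases zmod2_cases ((c : GolayPt → ZMod 2) i) with hc | hc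
  · left
    rw [Finset.eq_empty_iff_forall_notMem]
    intro j hj
    rw [Finset.mem_inter, mem_sup, ← h i hi j hj.2, hc] at hj
    exact zero_ne_one hj.1
  · right
    rw [Finset.eq_empty_iff_forall_notMem]
    intro j hj
    rw [Finset.mem_inter] at hj
    have h1 : (c : GolayPt → ZMod 2) j + (o : GolayPt → ZMod 2) j = 1 := (mem_sup _ _).1 hj.1
    have h2 := hj.2
    rw [← h i hi j h2, hc, (mem_sup o j).1 h2] at h1
    exact absurd h1 (by decide)

/-- **The pointwise stabiliser of the classes on two disjoint octads.** -/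
theorem fix_two {o₁ o₂ : golayCode} (h₁ : wt o₁ = 8) (h₂ : wt o₂ = 8) (hd : sup o₁ ∩ sup o₂ = ∅) {g : Co1}
    (hf : g • f0 = f0) (hg₁ : ∀ x ∈ W8 o₁, g • x = x) (hg₂ : ∀ x ∈ W8 o₂, g • x = x) :
    g = 1 ∨ g = eps o₁ ∨ g = eps o₂ ∨ g = eps o₁ * eps o₂ := by
  classical
  have hF : g ∈ Cfsg.Agent.MonsterU.CoFrameL2.F := (mem_F_iff g).2 hf
  obtain ⟨c, σ, rfl⟩ := exists_of_mem_F hF
  have hσ : σ = 1 := by
    obtain ⟨p, hp⟩ : (sup o₂).Nonempty := by
      rw [← Finset.card_pos]; unfold wt at h₂; omega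
    refine eq_one_of_fix h₁ (fun i hi => perm_fix h₁ hg₁ hi) (p := p) ?_ (perm_fix h₂ hg₂ hp)
    intro hp'
    have : p ∈ sup o₁ ∩ sup o₂ := Finset.mem_inter.2 ⟨hp', hp⟩
    rw [hd] at this
    exact Finset.notMem_empty p this
  subst hσ
  rw [map_one, mul_one] at hg₁ hg₂ ⊢
  have hone : pr (signCo0 allOne) = 1 := pr_eq_one.2 (Or.inr rfl)
  have hs : ∀ a b : golayCode, pr (signCo0 (a + b)) = pr (signCo0 a) * pr (signCo0 b) := fun a b => by
    rw [signCo0_add, map_mul]
  -- words vanishing on both octads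
  have hvan : ∀ d : golayCode, sup d ∩ sup o₁ = ∅ → sup d ∩ sup o₂ = ∅ → d = 0 ∨ d = allOne + (o₁ + o₂) := by
    intro d hd₁ hd₂
    have h3 := wt_add d o₁
    rw [hd₁, Finset.card_empty] at h3
    have h4 := wt_add (d + o₁) o₂
    have h5 : sup (d + o₁) ∩ sup o₂ = ∅ := by
      rw [Finset.eq_empty_iff_forall_notMem]
      intro i hi
      rw [Finset.mem_inter, sup_add, Finset.mem_symmDiff] at hi
      rcases hi.1 with h6 | h6
      · exact Finset.notMem_empty i (hd₂ ▸ Finset.mem_inter.2 ⟨h6.1, hi.2⟩)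
      · exact Finset.notMem_empty i (hd ▸ Finset.mem_inter.2 ⟨h6.1, hi.2⟩)
    rw [h5, Finset.card_empty] at h4
    have h6 := wt_add o₁ o₂
    rw [hd, Finset.card_empty] at h6
    rcases wt_cases d with h7 | h7 | h7 | h7 | h7
    · exact Or.inl (wt_eq_zero d h7)
    · right
      have h8 : wt (d + o₁ + o₂ + allOne) = 0 := by
        have := wt_add_allOne (d + o₁ + o₂)
        omega
      have h9 := wt_eq_zero _ h8
      apply Subtype.ext
      funext i
      have h10 : (d : GolayPt → ZMod 2) i + (o₁ : GolayPt → ZMod 2) i + (o₂ : GolayPt → ZMod 2) i +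
          (allOne : GolayPt → ZMod 2) i = 0 := congrFun (congrArg Subtype.val h9) i
      show (d : GolayPt → ZMod 2) i = (allOne : GolayPt → ZMod 2) i + ((o₁ : GolayPt → ZMod 2) i + (o₂ : GolayPt → ZMod 2) i)
      revert h10
      generalize (d : GolayPt → ZMod 2) i = a
      generalize (o₁ : GolayPt → ZMod 2) i = b
      generalize (o₂ : GolayPt → ZMod 2) i = e
      generalize (allOne : GolayPt → ZMod 2) i = f
      revert a b e f
      decide
    · rcases wt_cases (d + o₁ + o₂) with h8 | h8 | h8 | h8 | h8 <;> omega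
    · rcases wt_cases (d + o₁ + o₂) with h8 | h8 | h8 | h8 | h8 <;> omega
    · rcases wt_cases (d + o₁ + o₂) with h8 | h8 | h8 | h8 | h8 <;> omega
  have hepsd : ∀ d : golayCode, sup d ∩ sup o₁ = ∅ → sup d ∩ sup o₂ = ∅ → pr (signCo0 d) = 1 ∨
      pr (signCo0 d) = eps o₁ * eps o₂ := by
    intro d hd₁ hd₂
    rcases hvan d hd₁ hd₂ with rfl | rfl
    · left; rw [signCo0_zero, map_one]
    · right
      rw [hs, hone, one_mul, hs]
      rfl
  have hsum : ∀ a b : golayCode, a + b + b = a := fun a b => by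
    apply Subtype.ext
    funext i
    show (a : GolayPt → ZMod 2) i + (b : GolayPt → ZMod 2) i + (b : GolayPt → ZMod 2) i = (a : GolayPt → ZMod 2) i
    rw [add_assoc, CharTwo.add_self_eq_zero, add_zero]
  have hd' : sup o₂ ∩ sup o₁ = ∅ := by rw [Finset.inter_comm]; exact hd
  have hsup : ∀ a b o : golayCode, sup a ∩ sup o = ∅ → sup b ∩ sup o = ∅ → sup (a + b) ∩ sup o = ∅ := by
    intro a b o ha hb
    rw [Finset.eq_empty_iff_forall_notMem]
    intro i hi
    rw [Finset.mem_inter, sup_add, Finset.mem_symmDiff] at hi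
    rcases hi.1 with h6 | h6
    · exact Finset.notMem_empty i (ha ▸ Finset.mem_inter.2 ⟨h6.1, hi.2⟩)
    · exact Finset.notMem_empty i (hb ▸ Finset.mem_inter.2 ⟨h6.1, hi.2⟩)
  have e1 : eps o₁ * eps o₁ = 1 := eps_mul_eps o₁
  have e2 : eps o₂ * eps o₂ = 1 := eps_mul_eps o₂
  have e12 : eps o₁ * eps o₂ = eps o₂ * eps o₁ := by
    have h3 := hs o₁ o₂
    have h4 := hs o₂ o₁
    rw [add_comm] at h3
    exact h3.symm.trans h4
  -- the values of `c`
  have hc₁ := exists_bit h₁ (c := c) fun i hi j hj => sign_const h₁ hg₁ hi hj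
  have hc₂ := exists_bit h₂ (c := c) fun i hi j hj => sign_const h₂ hg₂ hi hj
  rcases hc₁ with hc₁ | hc₁ <;> rcases hc₂ with hc₂ | hc₂
  · rcases hepsd c hc₁ hc₂ with h3 | h3
    · exact Or.inl h3
    · exact Or.inr (Or.inr (Or.inr h3))
  · -- `c + o₂`
    have h3 := hepsd (c + o₂) (hsup c o₂ o₁ hc₁ hd') hc₂
    have h4 : pr (signCo0 c) = pr (signCo0 (c + o₂)) * eps o₂ := by
      rw [hs, mul_assoc]
      show _ = pr (signCo0 c) * (eps o₂ * eps o₂)
      rw [e2, mul_one]
    rw [h4]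
    rcases h3 with h3 | h3
    · rw [h3, one_mul]; exact Or.inr (Or.inr (Or.inl rfl))
    · rw [h3, mul_assoc, e2, mul_one]; exact Or.inr (Or.inl rfl)
  · have h3 := hepsd (c + o₁) hc₁ (hsup c o₁ o₂ hc₂ hd)
    have h4 : pr (signCo0 c) = pr (signCo0 (c + o₁)) * eps o₁ := by
      rw [hs, mul_assoc]
      show _ = pr (signCo0 c) * (eps o₁ * eps o₁)
      rw [e1, mul_one]
    rw [h4]
    rcases h3 with h3 | h3
    · rw [h3, one_mul]; exact Or.inr (Or.inl rfl)
    · rw [h3, e12, mul_assoc, e1, mul_one]; exact Or.inr (Or.inr (Or.inl rfl))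
  · have h3 := hepsd (c + o₁ + o₂) (hsup _ o₂ o₁ hc₁ hd') (by
      have h5 : c + o₁ + o₂ = c + o₂ + o₁ := by rw [add_assoc, add_comm o₁ o₂, ← add_assoc]
      rw [h5]
      exact hsup _ o₁ o₂ hc₂ hd)
    have h4 : pr (signCo0 c) = pr (signCo0 (c + o₁ + o₂)) * (eps o₂ * eps o₁) := by
      rw [hs, hs]
      show _ = pr (signCo0 c) * eps o₁ * eps o₂ * (eps o₂ * eps o₁)
      calc pr (signCo0 c) = pr (signCo0 c) * (eps o₁ * eps o₁) := by rw [e1, mul_one]
        _ = pr (signCo0 c) * eps o₁ * 1 * eps o₁ := by rw [mul_one, mul_assoc]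
        _ = pr (signCo0 c) * eps o₁ * (eps o₂ * eps o₂) * eps o₁ := by rw [e2]
        _ = _ := by group
    rw [h4]
    rcases h3 with h3 | h3
    · rw [h3, one_mul, ← e12]; exact Or.inr (Or.inr (Or.inr rfl))
    · left
      rw [h3]
      calc eps o₁ * eps o₂ * (eps o₂ * eps o₁) = eps o₁ * (eps o₂ * eps o₂) * eps o₁ := by group
        _ = 1 := by rw [e2, mul_one, e1]

end Cfsg.Agent.R2.H10.Mon.Disj
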