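import Cfsg.Agent.R2.H10.Mon.LinFix
import Cfsg.Agent.R2.H4.Mon.GeoConj
import Cfsg.Agent.H848.TenI

/-!
# A 2-group normalising an ark (helper10)

`omega` : the field `ArkFacts.omega` of the geometry; `bet_iff`.
-/

set_option autoImplicit false
set_option linter.unusedSectionVars false

open Cfsg

namespace Cfsg.Agent.R2.H10.Mon.Omega

open QuadraticMap Cfsg.Agent.LieClassical.OrthCore Cfsg.Agent.LieClassical.OrthTrans
open Cfsg.Agent.MonsterU.Lam2 (L2 IsType cl)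
open Cfsg.Agent.MonsterU.CoFrameL2
open Cfsg.Agent.MonsterU.AmalGen (pre mem_pre EE)
open Cfsg.Agent.MonsterU.AmalInf (AA mem_AA)
open Cfsg.Agent.MonsterU.Ch
open Cfsg.Agent.SporadicA.Co1Simple
open Cfsg.Agent.H848.Oct
open Cfsg.Agent.H848.TenB (T mem_T)
open Cfsg.Agent.H848.TenC (N)
open Cfsg.Agent.H848.TenE (V5 Crd)
open Cfsg.Agent.H848.TenF (QF)
open Cfsg.Agent.R2.H4.Mon.Frm
open Cfsg.Agent.R2.H4.Mon.GeoInst
open Cfsg.Agent.R2.H4.Mon.GeoConj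
open Cfsg.Agent.R2.M7
open Cfsg.Agent.R2.M7.Geo (cj CC)
open Cfsg.Spor (Co1)

variable {G : Type*} [Group G] {Q : Subgroup G} {z : G} {eta : G → L2}
  {pi : Subgroup.centralizer ({z} : Set G) →* Co1} {y τ : G}

theorem kap_eq (h : Chart Q z eta pi) (o : golayCode) (x : G) :
    (geo h o).kap x = Cfsg.Agent.H848.TenD.kap z x := by
  unfold Geo.kap Cfsg.Agent.H848.TenD.kap
  rfl

section

variable {o : golayCode} (Fo : Cfsg.Agent.H848.TenA.Facts o) (F : Fr Q z eta pi y τ) (hE : TE F.ch τ)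
include Fo F hE

/-- **The orthogonal space of a point.** -/
theorem bet_iff [Finite G] : ∀ O ∈ (geo F.ch o).Ark, ∀ v ∈ O, v ∈ (geo F.ch o).Pt → ∀ a ∈ O,
    (a ∈ (geo F.ch o).QQ v ↔ (geo F.ch o).bet a v = 0) := by
  intro O hO v hv hvP a ha
  obtain ⟨k, rfl, rfl⟩ := std1 Fo F hE hO hv hvP
  obtain ⟨a', ha', rfl⟩ : ∃ a' ∈ T F.ch o, k * a' * k⁻¹ = a := ⟨k⁻¹ * a * k, mem_cj.1 ha, by group⟩
  rw [QQ_conj_iff, bet_conj]
  have h1 := Cfsg.Agent.H848.TenD.kap_mul_z F.ch Fo F.hyQ F.hy F.τz F.τy hE ha'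
  unfold Geo.bet
  rw [kap_eq, kap_eq, kap_eq, h1, Cfsg.Agent.H848.TenD.kap_z, add_zero, geo_QQ, F.QQ_z, ← Cfsg.Agent.H848.TenD.nu_eq_zero]
  generalize Cfsg.Agent.H848.TenD.kap z a' = b
  generalize Cfsg.Agent.H848.TenD.nu Q a' = c
  revert b c
  decide

/-- **A 2-group normalising and not centralising an ark.** -/
theorem omega [Finite G] : ∀ O ∈ (geo F.ch o).Ark, ∀ S : Subgroup G, IsPGroup 2 S →
    (∀ t ∈ S, ∀ a ∈ O, t * a * t⁻¹ ∈ O) → (∃ t ∈ S, ∃ a ∈ O, t * a ≠ a * t) →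
    ∃ v ∈ O, v ∈ (geo F.ch o).Pt ∧ (∀ t ∈ S, t * v = v * t) ∧
      ∀ a ∈ O, (∀ t ∈ S, t * a = a * t) → a ∈ (geo F.ch o).QQ v := by
  intro O hO S hS hSO hne
  have hiff := bet_iff Fo F hE O hO
  obtain ⟨g, rfl⟩ := hO
  obtain ⟨t, ht, htQ, ⟨k, hk, hkz⟩, htk, ι, c⟩ :=
    Cfsg.Agent.H848.TenE.exists_crd F.ch Fo F.hyQ F.hy F.τz F.τy hE
  obtain ⟨β, hβ⟩ := Cfsg.Agent.H848.TenF.exists_beta c
  have hrange := (Cfsg.Agent.H848.TenH.range_eq F.ch Fo F.hyQ F.hy F.τz F.τy hE c hβ ht htQ hk hkz htk).1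
  -- the elements of `S`
  have hmem : ∀ s ∈ S, ∀ x, x ∈ T F.ch o → (g⁻¹ * s * g) * x * (g⁻¹ * s * g)⁻¹ ∈ T F.ch o := by
    intro s hs x hx
    have h1 := hSO s hs (g * x * g⁻¹) (conj_mem_cj.2 hx)
    rw [mem_cj] at h1
    have e : g⁻¹ * (s * (g * x * g⁻¹) * s⁻¹) * g = (g⁻¹ * s * g) * x * (g⁻¹ * s * g)⁻¹ := by group
    rwa [e] at h1
  have hN : ∀ s ∈ S, g⁻¹ * s * g ∈ N F.ch o := by
    intro s hs
    show g⁻¹ * s * g ∈ Subgroup.normalizer (T F.ch o : Set G)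
    rw [Subgroup.mem_normalizer_iff]
    intro x
    refine ⟨hmem s hs x, fun hx => ?_⟩
    have h1 := hmem s⁻¹ (S.inv_mem hs) _ hx
    have e : g⁻¹ * s⁻¹ * g * (g⁻¹ * s * g * x * (g⁻¹ * s * g)⁻¹) * (g⁻¹ * s⁻¹ * g)⁻¹ = x := by group
    rwa [e] at h1
  set S' : Subgroup G := S.map (MulAut.conj g⁻¹).toMonoidHom with hS'
  have memS' : ∀ s ∈ S, g⁻¹ * s * g ∈ S' := by
    intro s hs
    refine ⟨s, hs, ?_⟩
    show g⁻¹ * s * g⁻¹⁻¹ = _
    rw [inv_inv]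
  set P : Subgroup (V5 ≃ₗ[ZMod 2] V5) := (S'.subgroupOf (N F.ch o)).map β with hP
  have hPp : IsPGroup 2 P := by
    apply IsPGroup.map
    exact (hS.map _).comap_of_injective _ (Subgroup.subtype_injective _)
  have hPE : P ≤ E QF := by
    rw [← hrange]
    rintro _ ⟨x, -, rfl⟩
    exact ⟨x, rfl⟩
  -- elements of `P` from elements of `S`
  have hPmem : ∀ s (hs : s ∈ S), β ⟨g⁻¹ * s * g, hN s hs⟩ ∈ P := by
    intro s hs
    exact ⟨⟨_, hN s hs⟩, memS' s hs, rfl⟩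
  have hPact : ∀ s (hs : s ∈ S) (x : V5), ι (β ⟨g⁻¹ * s * g, hN s hs⟩ x) = g⁻¹ * s * g * ι x * (g⁻¹ * s * g)⁻¹ :=
    fun s hs x => hβ _ x
  have hPex : ∀ p ∈ P, ∃ s, ∃ hs : s ∈ S, p = β ⟨g⁻¹ * s * g, hN s hs⟩ := by
    rintro p ⟨⟨x, hx⟩, hxS, rfl⟩
    obtain ⟨s, hs, hsx⟩ := hxS
    have h1 : g⁻¹ * s * g⁻¹⁻¹ = x := hsx
    rw [inv_inv] at h1
    subst h1
    exact ⟨s, hs, rfl⟩
  have hfixiff : ∀ s (hs : s ∈ S) (x : V5), β ⟨g⁻¹ * s * g, hN s hs⟩ x = x ↔ s * (g * ι x * g⁻¹) = g * ι x * g⁻¹ * s := by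
    intro s hs x
    rw [← c.inj.eq_iff, hPact s hs x, mul_inv_eq_iff_eq_mul]
    constructor
    · intro h1
      calc s * (g * ι x * g⁻¹) = g * (g⁻¹ * s * g * ι x) * g⁻¹ := by group
        _ = g * (ι x * (g⁻¹ * s * g)) * g⁻¹ := by rw [h1]
        _ = _ := by group
    · intro h1
      calc g⁻¹ * s * g * ι x = g⁻¹ * (s * (g * ι x * g⁻¹)) * g := by group
        _ = g⁻¹ * (g * ι x * g⁻¹ * s) * g := by rw [h1]
        _ = _ := by group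
  have hsurj : ∀ a ∈ cj g (T F.ch o), ∃ x : V5, g * ι x * g⁻¹ = a := by
    intro a ha
    rw [mem_cj] at ha
    obtain ⟨x, hx⟩ := (c.mem _).1 ha
    exact ⟨x, by rw [hx]; group⟩
  have hP1 : P ≠ ⊥ := by
    intro h
    obtain ⟨s, hs, a, ha, hsa⟩ := hne
    apply hsa
    obtain ⟨x, rfl⟩ := hsurj a ha
    have h1 := hPmem s hs
    rw [h, Subgroup.mem_bot] at h1
    rw [← hfixiff s hs x, h1]
    rfl
  obtain ⟨v, hv0, hqv, hvfix, hvperp⟩ :=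
    LinFix.exists_sing QF Cfsg.Agent.H848.TenF.good P hPp hPE hP1
  have hkap : ∀ x : V5, (geo F.ch o).kap (g * ι x * g⁻¹) = QF x := by
    intro x
    rw [kap_conj, kap_eq, c.kap, Cfsg.Agent.H848.TenF.QF_apply]
  have hι : ∀ x : V5, g * ι x * g⁻¹ ∈ cj g (T F.ch o) := fun x =>
    conj_mem_cj.2 ((c.mem _).2 ⟨x, rfl⟩)
  have hvP : g * ι v * g⁻¹ ∈ (geo F.ch o).Pt := by
    rw [pt_conj_iff]
    have h1 := hkap v
    rw [hqv, kap_conj, kap_eq, Cfsg.Agent.H848.TenD.kap_eq_zero] at h1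
    rcases h1 with h1 | ⟨m, hm⟩
    · exfalso
      apply hv0
      apply c.inj
      rw [h1, Cfsg.Agent.H848.TenF.iota_zero c]
    · exact ⟨m, hm⟩
  refine ⟨g * ι v * g⁻¹, hι v, hvP, ?_, ?_⟩
  · intro s hs
    rw [← hfixiff s hs v]
    exact hvfix _ (hPmem s hs)
  · intro a ha hfix
    rw [hiff _ (hι v) hvP a ha]
    obtain ⟨x, rfl⟩ := hsurj a ha
    have h1 := hvperp x (by
      intro p hp
      obtain ⟨s, hs, rfl⟩ := hPex p hp
      rw [hfixiff s hs x]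
      exact hfix s hs)
    have h2 : g * ι x * g⁻¹ * (g * ι v * g⁻¹) = g * ι (x + v) * g⁻¹ := by
      rw [c.add]; group
    unfold Geo.bet
    rw [h2, hkap, hkap, hkap]
    rw [polar] at h1
    revert h1
    generalize QF (x + v) = α
    generalize QF x = α'
    generalize QF v = α''
    revert α α' α''
    decide

end

end Cfsg.Agent.R2.H10.Mon.Omega
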