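import Cfsg.Agent.R2.H10.Mon.Disj
import Cfsg.Agent.R2.H10.Mon.Omega
import Cfsg.Agent.R2.H4.Mon.ArkStd

/-!
# Two arks with a common singular subgroup of order 16 (helper10)

* `ark_oct` : the arks containing `z, y` are the subgroups of the octads;
* `adj_std` : in a frame in `X`, the arks of an adjacent pair are the subgroups of two disjoint octads;
* `twoArk` : the facts `Geo.TwoArk`.
-/

set_option autoImplicit false
set_option linter.unusedSectionVars false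

open Cfsg

namespace Cfsg.Agent.R2.H10.Mon.TwoArk

open Cfsg.Agent.SporadicA.Co1Simple (allOne)
open Cfsg.Agent.SporadicA.Co0Mono (signCo0)
open Cfsg.Agent.CoOneType.SignFacts
open Cfsg.Agent.CoOneType.CoOneE (pr pr_surjective E mem_E isConj_of_wt wt_of_isConj)
open Cfsg.Agent.MonsterU.Lam2 (L2 IsType cl neg_eq)
open Cfsg.Agent.MonsterU.CoFrameL2
open Cfsg.Agent.MonsterU.AmalGen (pre mem_pre EE pi_mem_F_iff pre_W1 z_mem_pre)
open Cfsg.Agent.MonsterU.AmalInf (AA mem_AA mem_EE_iff)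
open Cfsg.Agent.MonsterU.Ch
open Cfsg.Agent.H848.Oct
open Cfsg.Agent.H848.TenB (T mem_T pre_W8_le)
open Cfsg.Agent.R2.H4.Mon.Frm
open Cfsg.Agent.R2.H4.Mon.KeyGrp
open Cfsg.Agent.R2.H4.Mon.GeoInst
open Cfsg.Agent.R2.H4.Mon.GeoConj
open Cfsg.Agent.R2.H4.Mon.ArkStd
open Cfsg.Agent.R2.M7
open Cfsg.Agent.R2.M7.Geo (cj CC)
open Cfsg.Agent.R2.H10.Mon.Disj
open Cfsg.Spor (Co1)

variable {G : Type*} [Group G] {Q : Subgroup G} {z : G} {eta : G → L2}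
  {pi : Subgroup.centralizer ({z} : Set G) →* Co1} {y τ : G} {o : golayCode}

/-- **The arks containing `z` and `y`.** -/
theorem ark_oct [Finite G] (ho : wt o = 8) (F : Fr Q z eta pi y τ) (hE : TE F.ch τ) {O : Subgroup G}
    (hO : O ∈ (geo F.ch o).Ark) (hz : z ∈ O) (hy : y ∈ O) : ∃ o', wt o' = 8 ∧ O = T F.ch o' := by
  obtain ⟨k, hkz, hky, rfl⟩ := std2 (facts ho) F hE hO hz (TwoB.self z) hy F.twoB_y
    (by rw [F.QQ_z]; exact F.hyQ) F.y_ne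
  have hkc : k ∈ Subgroup.centralizer ({z} : Set G) := by
    rw [Subgroup.mem_centralizer_singleton_iff]
    exact mul_inv_eq_iff_eq_mul.1 hkz
  have hkF : pi ⟨k, hkc⟩ ∈ Cfsg.Agent.MonsterU.CoFrameL2.F := by
    rw [mem_F_iff]
    have h1 := F.ch.eta_conj ⟨k, hkc⟩ y F.hyQ
    have h2 : eta (k * y * k⁻¹) = pi ⟨k, hkc⟩ • eta y := h1
    rw [hky, F.hy] at h2
    exact h2.symm
  obtain ⟨o', ho'⟩ := F_conj_E hkF ((mem_E _).2 ⟨o, rfl⟩ : eps o ∈ E)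
  have h2 : pi ⟨k, hkc⟩ * eps o * (pi ⟨k, hkc⟩)⁻¹ = eps o' := ho'
  have h3 : IsConj (eps o) (eps o') := isConj_iff.2 ⟨_, h2⟩
  obtain ⟨o₂, ho₂, he⟩ : ∃ o₂, wt o₂ = 8 ∧ eps o₂ = eps o' := by
    rcases wt_of_isConj o o' h3 with h4 | h4
    · exact ⟨o', by omega, rfl⟩
    · refine ⟨o' + allOne, ?_, eps_add_allOne o'⟩
      have := wt_add_allOne o'
      omega
  exact ⟨o₂, ho₂, T_eq_cj F.ch hkc (by rw [he]; exact h2)⟩

section

variable (ho : wt o = 8) (F : Fr Q z eta pi y τ) (hE : TE F.ch τ)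
include ho F hE

/-- the elements of a subgroup of points containing `z` -/
theorem sing_mem_Q [Finite G] (A : (geo F.ch o).ArkFacts) {O : Subgroup G} (hO : O ∈ (geo F.ch o).Ark) {X : Subgroup G}
    (hXO : X ≤ O) (hX : ∀ x ∈ X, x ≠ 1 → x ∈ (geo F.ch o).Pt) {q x : G} (hq : q ∈ X) (hq1 : q ≠ 1) (hx : x ∈ X) :
    x ∈ (geo F.ch o).QQ q := by
  rw [A.bet_iff O hO q (hXO hq) (hX q hq hq1) x (hXO hx)]
  have hk : ∀ x ∈ X, (geo F.ch o).kap x = 0 := by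
    intro x hx
    unfold Geo.kap
    rw [if_pos]
    by_cases h1 : x = 1
    · exact Or.inl h1
    · exact Or.inr (hX x hx h1)
  unfold Geo.bet
  rw [hk _ (X.mul_mem hx hq), hk x hx, hk q hq]
  decide

/-- the class of a point -/
theorem type_pt [Finite G] {x : G} (hxQ : x ∈ Q) (hx : TwoB z x) (hxz : x ≠ z) : IsType 4 (eta x) := by
  obtain ⟨g, hg⟩ := hx
  rw [← hg]
  exact Cfsg.Agent.MonsterU.Fused.type_four_of_conj F.ch (by rw [hg]; exact hxQ) (by rw [hg]; exact hxz)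

/-- **Adjacent arks through `z, y`.** -/
theorem adj_std [Finite G] (A : (geo F.ch o).ArkFacts) {O₁ O₂ X : Subgroup G} (hA : (geo F.ch o).Adj O₁ O₂ X)
    (hz : z ∈ X) (hy : y ∈ X) :
    ∃ o₁ o₂, wt o₁ = 8 ∧ wt o₂ = 8 ∧ O₁ = T F.ch o₁ ∧ O₂ = T F.ch o₂ ∧ sup o₁ ∩ sup o₂ = ∅ := by
  obtain ⟨hO₁, hO₂, hne, hX₁, hX₂, hcard, hpt⟩ := hA
  obtain ⟨o₁, h₁, rfl⟩ := ark_oct ho F hE hO₁ (hX₁ hz) (hX₁ hy)
  obtain ⟨o₂, h₂, rfl⟩ := ark_oct ho F hE hO₂ (hX₂ hz) (hX₂ hy)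
  refine ⟨o₁, o₂, h₁, h₂, rfl, rfl, ?_⟩
  have hne' : o₁ ≠ o₂ := fun h => hne (by rw [h])
  -- elements of `X`
  have hXQ : ∀ x ∈ X, x ∈ Q := by
    intro x hx
    have h3 := sing_mem_Q ho F hE A hO₁ hX₁ hpt hz F.ch.large.z_ne hx
    rwa [geo_QQ, F.QQ_z] at h3
  have hXy : ∀ x ∈ X, x ∈ QQ Q z y := by
    intro x hx
    have h3 := sing_mem_Q ho F hE A hO₁ hX₁ hpt hy F.y_ne_one hx
    rwa [geo_QQ] at h3
  have h12 : ∀ x ∈ X, eta x ∈ W12 := by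
    intro x hx
    have h3 : x ∈ EE F.ch := by
      rw [mem_EE_iff F.ch F.hyQ F.hy F.τz F.τy, ← F.QQ_y]
      exact ⟨hXQ x hx, hXy x hx⟩
    exact h3.2
  have hW8 : ∀ o', X ≤ T F.ch o' → ∀ x ∈ X, eta x ∈ W8 o' := by
    intro o' hX x hx
    exact (Cfsg.Agent.H848.TenB.mem_T_Q F.ch (hXQ x hx)).1 (hX hx)
  -- elements not in `⟨z, y⟩`
  have hW1 : ∀ x ∈ X, eta x ∈ W1 → x = 1 ∨ x = z ∨ x = y ∨ x = y * z := by
    intro x hx h3
    rcases (mem_W1 _).1 h3 with h4 | h4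
    · rcases (F.ch.eta_zero x (hXQ x hx)).1 h4 with h5 | h5
      · exact Or.inl h5
      · exact Or.inr (Or.inl h5)
    · rw [← F.hy] at h4
      rcases (F.ch.eta_eq (hXQ x hx) F.hyQ).1 h4 with h5 | h5
      · exact Or.inr (Or.inr (Or.inl h5))
      · exact Or.inr (Or.inr (Or.inr h5))
  have hex : ∀ S : Finset G, S.card ≤ 8 → ∃ x ∈ X, x ∉ S := by
    classical
    intro S hS
    by_contra hn
    push Not at hn
    have h3 : (X : Set G).ncard ≤ (S : Set G).ncard := Set.ncard_le_ncard (fun x hx => hn x hx) S.finite_toSet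
    rw [Set.ncard_coe_finset] at h3
    have h4 : (X : Set G).ncard = 16 := hcard
    omega
  classical
  obtain ⟨a, ha, haS⟩ := hex {1, z, y, y * z} (Finset.card_le_four.trans (by norm_num))
  obtain ⟨b, hb, hbS⟩ := hex ({1, z, y, y * z} ∪ {a, a * z, a * y, a * (y * z)}) (by
    refine (Finset.card_union_le _ _).trans ?_
    have h3 := Finset.card_le_four (a := (1 : G)) (b := z) (c := y) (d := y * z)
    have h4 := Finset.card_le_four (a := a) (b := a * z) (c := a * y) (d := a * (y * z))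
    omega)
  rw [Finset.mem_union, not_or] at hbS
  have hna : ∀ x ∈ X, x ∉ ({1, z, y, y * z} : Finset G) → eta x ∉ W1 := by
    intro x hx hxS h3
    apply hxS
    simp only [Finset.mem_insert, Finset.mem_singleton]
    exact hW1 x hx h3
  have hab : eta a + eta b ∉ W1 := by
    rw [← F.ch.eta_mul a (hXQ a ha) b (hXQ b hb)]
    intro h3
    have h4 := hW1 _ (X.mul_mem ha hb) h3
    have haa : a * a = 1 := A.sq _ hO₁ a (hX₁ ha)
    have hb' : ∀ w, a * b = w → b = a * w := by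
      rintro w rfl
      rw [← mul_assoc, haa, one_mul]
    apply hbS.2
    simp only [Finset.mem_insert, Finset.mem_singleton]
    rcases h4 with h4 | h4 | h4 | h4
    · left; rw [hb' _ h4, mul_one]
    · right; left; exact hb' _ h4
    · right; right; left; exact hb' _ h4
    · right; right; right; exact hb' _ h4
  have hnotz : ∀ x, x ∉ ({1, z, y, y * z} : Finset G) → x ≠ 1 ∧ x ≠ z := by
    intro x hx
    simp only [Finset.mem_insert, Finset.mem_singleton, not_or] at hx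
    exact ⟨hx.1, hx.2.1⟩
  have hty : ∀ x ∈ X, x ∉ ({1, z, y, y * z} : Finset G) → ¬ IsType 2 (eta x) := by
    intro x hx hxS
    obtain ⟨h3, h4⟩ := hnotz x hxS
    exact not_type_two (type_pt ho F hE (hXQ x hx) (hpt x hx h3) h4) (facts h₁)
  exact disj h₁ h₂ hne' (hW8 o₁ hX₁ a ha) (hW8 o₂ hX₂ a ha) (h12 a ha) (hna a ha haS) (hty a ha haS)
    (hW8 o₁ hX₁ b hb) (hW8 o₂ hX₂ b hb) (h12 b hb) (hna b hb hbS.1) (hty b hb hbS.1) hab

/-- the common part with `Q` commutes with the other ark -/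
theorem comm_of_disj {o₁ o₂ : golayCode} (hd : sup o₁ ∩ sup o₂ = ∅) {a b : G} (ha : a ∈ T F.ch o₁) (haQ : a ∈ Q)
    (hb : b ∈ T F.ch o₂) : a * b = b * a :=
  (mem_T F.ch).1 hb a ⟨haQ, W8_le hd ((Cfsg.Agent.H848.TenB.mem_T_Q F.ch haQ).1 ha)⟩

/-- the centraliser of two disjoint arks -/
theorem cent_of_disj [Finite G] {o₁ o₂ : golayCode} (h₁ : wt o₁ = 8) (h₂ : wt o₂ = 8) (hd : sup o₁ ∩ sup o₂ = ∅)
    {s : G} (hs₁ : s ∈ CC (T F.ch o₁)) (hs₂ : s ∈ CC (T F.ch o₂)) :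
    ∃ r ∈ Q, ∃ a ∈ T F.ch o₁, ∃ b ∈ T F.ch o₂, s = r * a * b := by
  have hz : ∀ o', z ∈ T F.ch o' := fun o' => pre_W8_le F.ch (z_mem_pre F.ch _)
  have hsz : s ∈ Subgroup.centralizer ({z} : Set G) := by
    rw [Subgroup.mem_centralizer_singleton_iff]
    exact (mem_CC.1 hs₁ z (hz o₁)).symm
  have hfix : ∀ o', s ∈ CC (T F.ch o') → ∀ x ∈ W8 o', pi ⟨s, hsz⟩ • x = x := by
    intro o' hs x hx
    obtain ⟨p, hp, rfl⟩ := F.ch.eta_surj x
    rw [← F.ch.eta_conj ⟨s, hsz⟩ p hp]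
    congr 1
    show s * p * s⁻¹ = p
    rw [← mem_CC.1 hs p (pre_W8_le F.ch ⟨hp, hx⟩)]
    group
  have hget : ∀ o' (h' : wt o' = 8), ∃ t ∈ T F.ch o', ∃ htz : t ∈ Subgroup.centralizer ({z} : Set G),
      pi ⟨t, htz⟩ = eps o' := by
    intro o' h'
    obtain ⟨t, ht, htC, htQ, -⟩ := Cfsg.Agent.H848.TenB.exists_t0 F.ch (facts h') F.hyQ F.hy F.τz F.τy hE
    have htz : t ∈ Subgroup.centralizer ({z} : Set G) :=
      Subgroup.mem_centralizer_singleton_iff.2 (Cfsg.Agent.H848.TenB.T_z F.ch ht)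
    exact ⟨t, ht, htz,
      (Cfsg.Agent.H848.TenB.pi_T F.ch (facts h') (c := ⟨t, htz⟩) ht).resolve_left fun h1 => htQ ((F.ch.pi_eq_one _).1 h1)⟩
  obtain ⟨t₁, ht₁, ht₁z, hp₁⟩ := hget o₁ h₁
  obtain ⟨t₂, ht₂, ht₂z, hp₂⟩ := hget o₂ h₂
  have hin : ∀ a (ha : a ∈ Subgroup.centralizer ({z} : Set G)), pi ⟨s, hsz⟩ = pi ⟨a, ha⟩ → s * a⁻¹ ∈ Q := by
    intro a ha h3
    have h4 : pi (⟨s, hsz⟩ * ⟨a, ha⟩⁻¹) = 1 := by rw [map_mul, map_inv, h3, mul_inv_cancel]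
    exact (F.ch.pi_eq_one _).1 h4
  rcases fix_two h₁ h₂ hd (hfix o₁ hs₁ f0 (facts h₁).f0_mem) (hfix o₁ hs₁) (hfix o₂ hs₂) with h | h | h | h
  · refine ⟨s, (F.ch.pi_eq_one _).1 h, 1, Subgroup.one_mem _, 1, Subgroup.one_mem _, ?_⟩
    rw [mul_one, mul_one]
  · refine ⟨s * t₁⁻¹, hin t₁ ht₁z (by rw [h, hp₁]), t₁, ht₁, 1, Subgroup.one_mem _, ?_⟩
    group
  · refine ⟨s * t₂⁻¹, hin t₂ ht₂z (by rw [h, hp₂]), 1, Subgroup.one_mem _, t₂, ht₂, ?_⟩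
    group
  · refine ⟨s * (t₁ * t₂)⁻¹, hin (t₁ * t₂) (Subgroup.mul_mem _ ht₁z ht₂z) ?_, t₁, ht₁, t₂, ht₂, ?_⟩
    · rw [h, ← hp₁, ← hp₂, ← map_mul]
      rfl
    · group

end

/-- another element of a subgroup of order 16 -/
theorem exists_other {X : Subgroup G} (hcard : Nat.card X = 16) (q : G) : ∃ x ∈ X, x ≠ 1 ∧ x ≠ q := by
  classical
  by_contra hn
  push Not at hn
  have h3 : (X : Set G).ncard ≤ (({1, q} : Finset G) : Set G).ncard := by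
    apply Set.ncard_le_ncard _ (Finset.finite_toSet _)
    intro x hx
    rw [Finset.mem_coe, Finset.mem_insert, Finset.mem_singleton]
    by_cases h1 : x = 1
    · exact Or.inl h1
    · exact Or.inr (hn x hx h1)
  rw [Set.ncard_coe_finset] at h3
  have h4 : (X : Set G).ncard = 16 := hcard
  have h5 := Finset.card_le_two (a := (1 : G)) (b := q)
  omega

/-- **The facts on two arks.** -/
theorem twoArk [Finite G] (ho : wt o = 8) (F : Fr Q z eta pi y τ) (A : (geo F.ch o).ArkFacts) :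
    (geo F.ch o).TwoArk := by
  -- a frame at two elements of `X`
  have hframe : ∀ {O₁ O₂ X : Subgroup G}, (geo F.ch o).Adj O₁ O₂ X → ∀ q ∈ X, q ≠ 1 → ∀ x ∈ X, x ≠ 1 → x ≠ q →
      ∃ (eta' : G → L2) (pi' : Subgroup.centralizer ({q} : Set G) →* Co1) (τ' : G)
        (F' : Fr (QQ Q z q) q eta' pi' x τ') (_ : TE F'.ch τ') (o₁ o₂ : golayCode), wt o₁ = 8 ∧ wt o₂ = 8 ∧
          O₁ = T F'.ch o₁ ∧ O₂ = T F'.ch o₂ ∧ sup o₁ ∩ sup o₂ = ∅ := by
    intro O₁ O₂ X hA q hq hq1 x hx hx1 hxq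
    obtain ⟨hO₁, hO₂, hne, hX₁, hX₂, hcard, hpt⟩ := id hA
    obtain ⟨τ₀, F₀, hE₀⟩ := Fr.exists_TE F
    have hxQ : x ∈ QQ Q z q := by
      have := sing_mem_Q ho F₀ hE₀ A hO₁ hX₁ hpt hq hq1 hx
      exact this
    obtain ⟨eta', pi', τ', F', hS, hE'⟩ := exists_frame_at F (hpt q hq hq1) (hpt x hx hx1) hxQ hxq
    have hg := geo_eq_of_same hS o
    rw [← hg] at hA A
    obtain ⟨o₁, o₂, h⟩ := adj_std ho F' hE' A hA hq hx
    exact ⟨eta', pi', τ', F', hE', o₁, o₂, h⟩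
  have hcomm : ∀ {O₁ O₂ X : Subgroup G}, (geo F.ch o).Adj O₁ O₂ X → ∀ q ∈ X, q ≠ 1 →
      ∀ a ∈ O₁, a ∈ (geo F.ch o).QQ q → ∀ b ∈ O₂, a * b = b * a := by
    intro O₁ O₂ X hA q hq hq1 a ha haq b hb
    obtain ⟨x, hx, hx1, hxq⟩ := exists_other hA.2.2.2.2.2.1 q
    obtain ⟨eta', pi', τ', F', hE', o₁, o₂, h₁, h₂, rfl, rfl, hd⟩ := hframe hA q hq hq1 x hx hx1 hxq
    exact comm_of_disj h₁ F' hE' hd ha haq hb
  refine ⟨fun O₁ O₂ X hA a ha b hb => ?_, fun O₁ O₂ X hA q hq hq1 s hs₁ hs₂ => ?_⟩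
  · obtain ⟨hO₁, hO₂, hne, hX₁, hX₂, hcard, hpt⟩ := id hA
    obtain ⟨q, hq, hq1, -⟩ := exists_other hcard 1
    obtain ⟨x, hx, hx1, hxq⟩ := exists_other hcard q
    have hqx : q * x ≠ 1 := by
      intro h
      apply hxq
      have h1 := A.sq O₁ hO₁ q (hX₁ hq)
      exact mul_left_cancel (a := q) (by rw [h, h1])
    have hiff : ∀ v ∈ X, v ≠ 1 → (a ∈ (geo F.ch o).QQ v ↔ (geo F.ch o).bet a v = 0) := fun v hv hv1 =>
      A.bet_iff O₁ hO₁ v (hX₁ hv) (hpt v hv hv1) a ha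
    have hsymm : ∀ u ∈ O₁, ∀ v ∈ O₁, (geo F.ch o).bet u v = (geo F.ch o).bet v u := by
      intro u hu v hv
      unfold Geo.bet
      rw [A.comm O₁ hO₁ u hu v hv]
      ring
    have hadd : (geo F.ch o).bet a (q * x) = (geo F.ch o).bet a q + (geo F.ch o).bet a x := by
      rw [hsymm a ha _ (hX₁ (X.mul_mem hq hx)), A.bet_mul O₁ hO₁ q (hX₁ hq) x (hX₁ hx) a ha,
        hsymm q (hX₁ hq) a ha, hsymm x (hX₁ hx) a ha]
    by_cases haq : (geo F.ch o).bet a q = 0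
    · exact hcomm hA q hq hq1 a ha ((hiff q hq hq1).2 haq) b hb
    by_cases hax : (geo F.ch o).bet a x = 0
    · exact hcomm hA x hx hx1 a ha ((hiff x hx hx1).2 hax) b hb
    · refine hcomm hA (q * x) (X.mul_mem hq hx) hqx a ha ((hiff _ (X.mul_mem hq hx) hqx).2 ?_) b hb
      rw [hadd]
      revert haq hax
      generalize (geo F.ch o).bet a q = α
      generalize (geo F.ch o).bet a x = α'
      revert α α'
      decide
  · obtain ⟨x, hx, hx1, hxq⟩ := exists_other hA.2.2.2.2.2.1 q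
    obtain ⟨eta', pi', τ', F', hE', o₁, o₂, h₁, h₂, rfl, rfl, hd⟩ := hframe hA q hq hq1 x hx hx1 hxq
    exact cent_of_disj h₁ F' hE' h₁ h₂ hd hs₁ hs₂

end Cfsg.Agent.R2.H10.Mon.TwoArk
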