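import Cfsg.Agent.R2.H10.Mon.Asm
import Cfsg.Agent.R2.H10.Mon.TwoArk
import Cfsg.Agent.R2.M7.MainC
import Cfsg.Agent.R2.H4.Mon.FactsAsm
import Cfsg.Agent.R2.H20.Mon.VCard

/-!
# S5539 from `MainB` (helper10)
-/

set_option autoImplicit false

open Cfsg

namespace Cfsg.Agent.R2.H10.Mon.Final

open Cfsg.Agent.MonsterU.Lam2 (L2)
open Cfsg.Agent.CoOneType.SignFacts
open Cfsg.Agent.R2.H4.Mon.Frm
open Cfsg.Agent.R2.H4.Mon.GeoInst
open Cfsg.Spor (Co1)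

section

variable {G : Type*} [Group G] [Finite G] {Q : Subgroup G} {z : G} {eta : G → L2}
  {pi : Subgroup.centralizer ({z} : Set G) →* Co1} {y τ : G} {o : golayCode}

/-- all the facts -/
theorem facts_all (ho : wt o = 8) (F : Fr Q z eta pi y τ) (hE : TE F.ch τ) : (geo F.ch o).Facts := by
  have A : (geo F.ch o).ArkFacts := Cfsg.Agent.R2.H4.Mon.FactsAsm.arkFacts ho F hE
    (Cfsg.Agent.R2.H20.Mon.VCard.V_card ho F hE) (Cfsg.Agent.R2.H20.Mon.VCard.V_inter ho F hE)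
  exact Cfsg.Agent.R2.H4.Mon.FactsAsm.facts' ho F A (Cfsg.Agent.R2.H10.Mon.TwoArk.twoArk ho F A)

/-- the main claim -/
theorem mainC (ho : wt o = 8) (F : Fr Q z eta pi y τ) (hE : TE F.ch τ) : (geo F.ch o).MainC :=
  Cfsg.Agent.R2.M7.MainCP.mainC (facts_all ho F hE)

end

/-- **S5539 from `MainB`.** -/
theorem final_of (hB : ∀ (Q : Subgroup Spor.Monster) (z : Spor.Monster) (eta : Spor.Monster → L2)
    (pi : Subgroup.centralizer ({z} : Set Spor.Monster) →* Co1) (y τ : Spor.Monster) (o : golayCode), wt o = 8 →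
      ∀ F : Fr Q z eta pi y τ, TE F.ch τ → (geo F.ch o).MainB) :
    ∃ S : Finset (Subgroup Cfsg.Spor.Monster), S.card = 7 ∧ (∀ H ∈ S, Cfsg.IsTwoLocal H) ∧
      ∀ H : Subgroup Cfsg.Spor.Monster, Cfsg.IsMaximalTwoLocal H →
        ∃ H₀ ∈ S, ∃ g : Cfsg.Spor.Monster, H = H₀.map (MulAut.conj g).toMonoidHom := by
  have := Cfsg.Agent.R2.H4.Mon.MonFr.finite
  refine Cfsg.Agent.R2.H10.Mon.Asm.asm fun Q z eta pi y τ F => ?_
  obtain ⟨o, ho⟩ := exists_octad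
  obtain ⟨τ', F', hE⟩ := Fr.exists_TE F
  exact ⟨geo F'.ch o, fun _ => Iff.rfl, mainC ho F' hE, hB Q z eta pi y τ' o ho F' hE⟩

end Cfsg.Agent.R2.H10.Mon.Final
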