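import Cfsg.Agent.H251.JThompson
import Cfsg.Agent.Lib.ThompsonPQ
import Cfsg.Agent.R2.H4.Mon.Frm

/-!
# Reduction for maximal 2-local subgroups in a group with large subgroups (helper10)

`H` a maximal 2-local subgroup, `T = O₂(H)`, `Z = Ω₁(Z(T))`.

* `exists_data` : the data `T, Z`; `H = N(T) = N(Z)`.
* `closed` : if `z' ∈ Z` for a conjugate `z'` of `z`, `Large Q z`, then every involution centralising `T` lies in `Z`.
* `eq_normalizer` : if `H` normalises a nontrivial 2-subgroup `F` then `H = N(F)`.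
-/

set_option autoImplicit false

namespace Cfsg.Agent.R2.H10.Mon.Red

open Subgroup Cfsg
open Cfsg.Agent.H251
open Cfsg.Agent.Co2Type.Quad
open Cfsg.Agent.R2.H4.Mon.Frm
open Cfsg.Agent.MonsterU.AmalInf (AA mem_AA)

variable {G : Type*} [Group G]

/-- a large subgroup whose centre is in `Z(T)`: the centraliser of `T` is a 2-group contained in `T` if `T = O₂(N(T))` -/
theorem centralizer_le [Finite G] {Q T : Subgroup G} {z : G} (hL : Large Q z) (hQ : IsPGroup 2 Q) (hT : IsPGroup 2 T)
    (hTO : T = pCoreOf 2 (normalizer (T : Set G))) (hzT : z ∈ T) (hzc : z ∈ centralizer (T : Set G)) :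
    centralizer (T : Set G) ≤ T := by
  have : Fact (Nat.Prime 2) := ⟨Nat.prime_two⟩
  set C := centralizer (T : Set G) with hC
  have hCz : ∀ c ∈ C, c * z = z * c := fun c hc => (mem_centralizer_iff.1 hc z hzT).symm
  have hTz : ∀ t ∈ T, t * z = z * t := fun t ht => mem_centralizer_iff.1 hzc t ht
  have hCN : C ≤ normalizer (T : Set G) := centralizer_le_normalizer _
  -- `C` normalises `Q ⊓ C`
  have h1 : Q ⊓ C ≤ pCoreOf 2 C := by
    refine le_pCoreOf (hQ.to_le inf_le_left) inf_le_right ?_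
    intro c hc
    rw [mem_normalizer_iff]
    intro x
    have hcz := hCz c hc
    have hcz' : c⁻¹ * z = z * c⁻¹ := by
      calc c⁻¹ * z = c⁻¹ * (z * c) * c⁻¹ := by group
        _ = c⁻¹ * (c * z) * c⁻¹ := by rw [hcz]
        _ = z * c⁻¹ := by group
    constructor
    · rintro ⟨hxQ, hxC⟩
      exact ⟨hL.conj_mem c hcz x hxQ, C.mul_mem (C.mul_mem hc hxC) (C.inv_mem hc)⟩
    · rintro ⟨hxQ, hxC⟩
      have e : x = c⁻¹ * (c * x * c⁻¹) * c⁻¹⁻¹ := by group
      rw [e]
      exact ⟨hL.conj_mem c⁻¹ hcz' _ hxQ, C.mul_mem (C.mul_mem (C.inv_mem hc) hxC) (C.inv_mem (C.inv_mem hc))⟩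
  have h2 : normalizer (T : Set G) ≤ normalizer (C : Set G) := by
    intro g hg
    rw [← cj_eq_self_iff] at hg ⊢
    rw [hC, cj_centralizer, hg]
  have h3 : pCoreOf 2 C ≤ T := by
    conv_rhs => rw [hTO]
    exact pCoreOf_mono_of_normal hCN h2
  have hQC : Q ⊓ C ≤ T := h1.trans h3
  -- an element of odd order in `C` is trivial
  have hodd : ∀ c ∈ C, ¬ 2 ∣ orderOf c → c = 1 := by
    intro c hc ho
    have h4 := Cfsg.Agent.Lib.ThompsonPQ.thompson_p_times_q (G := G) 2 T (zpowers c) Q hT (by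
        rw [Nat.card_zpowers]
        exact ((Nat.Prime.coprime_iff_not_dvd Nat.prime_two).2 ho).symm) hQ
      (by
        intro t ht
        rw [mem_centralizer_iff]
        intro x hx
        obtain ⟨k, rfl⟩ := mem_zpowers_iff.1 hx
        exact ((show Commute t c from mem_centralizer_iff.1 hc t ht).zpow_right k).symm)
      (by
        intro t ht
        rw [mem_normalizer_iff]
        intro x
        constructor
        · exact hL.conj_mem t (hTz t ht) x
        · intro h5
          have e : x = t⁻¹ * (t * x * t⁻¹) * t⁻¹⁻¹ := by group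
          rw [e]
          exact hL.conj_mem t⁻¹ (hTz _ (T.inv_mem ht)) _ h5)
      (by
        rw [zpowers_le]
        rw [mem_normalizer_iff]
        intro x
        constructor
        · exact hL.conj_mem c (hCz c hc) x
        · intro h5
          have e : x = c⁻¹ * (c * x * c⁻¹) * c⁻¹⁻¹ := by group
          rw [e]
          exact hL.conj_mem c⁻¹ (hCz _ (C.inv_mem hc)) _ h5)
      (by
        intro x hx
        rw [mem_centralizer_iff]
        intro y hy
        obtain ⟨k, rfl⟩ := mem_zpowers_iff.1 hy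
        have h5 : x ∈ T := hQC hx
        exact ((show Commute x c from mem_centralizer_iff.1 hc x h5).zpow_right k).symm)
    have hcQ : ∀ x ∈ Q, c * x = x * c := fun x hx =>
      (mem_centralizer_iff.1 (h4 (mem_zpowers c)) x hx).symm
    have hcQ' : c ∈ Q := hL.self c (hCz c hc) hcQ
    obtain ⟨k, hk⟩ := (IsPGroup.iff_orderOf.1 hQ) ⟨c, hcQ'⟩
    rw [← Subgroup.orderOf_coe] at hk
    rcases Nat.eq_zero_or_pos k with rfl | hk0
    · rw [pow_zero, orderOf_eq_one_iff] at hk
      exact hk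
    · exfalso
      apply ho
      change orderOf c = 2 ^ k at hk
      rw [hk]
      exact dvd_pow_self 2 hk0.ne'
  -- so `C` is a 2-group
  have hCp : IsPGroup 2 C := by
    rw [IsPGroup.iff_orderOf]
    rintro ⟨c, hc⟩
    rw [← Subgroup.orderOf_coe]
    show ∃ k, orderOf c = 2 ^ k
    obtain ⟨k, m, hm, hkm⟩ := Nat.exists_eq_pow_mul_and_not_dvd (orderOf_pos c).ne' 2 (by norm_num)
    refine ⟨k, ?_⟩
    have h5 : c ^ 2 ^ k = 1 := by
      apply hodd _ (C.pow_mem hc _)
      rw [orderOf_pow, hkm, Nat.gcd_eq_right (Dvd.intro _ rfl), Nat.mul_div_cancel_left _ (by positivity)]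
      exact hm
    have h6 : 2 ^ k * m ∣ 2 ^ k * 1 := by
      rw [mul_one, ← hkm]; exact orderOf_dvd_of_pow_eq_one h5
    have h7 : m = 1 := Nat.dvd_one.1 (Nat.dvd_of_mul_dvd_mul_left (by positivity) h6)
    rw [hkm, h7, mul_one]
  conv_rhs => rw [hTO]
  exact le_pCoreOf hCp hCN h2

/-- **The data of a maximal 2-local subgroup** (`z` : a central involution with large subgroup `Q`). -/
structure Data (Q : Subgroup G) (z : G) (H T Z : Subgroup G) : Prop where
  hT : IsPGroup 2 T
  hTb : T ≠ ⊥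
  hNT : H = normalizer (T : Set G)
  hNZ : H = normalizer (Z : Set G)
  hZT : Z ≤ T
  hZb : Z ≠ ⊥
  sq : ∀ a ∈ Z, a * a = 1
  comm : ∀ a ∈ Z, ∀ t ∈ T, a * t = t * a
  closed : (∃ c ∈ Z, TwoB z c) → ∀ a : G, a * a = 1 → (∀ t ∈ T, a * t = t * a) → a ∈ Z
  norm : ∀ F : Subgroup G, IsPGroup 2 F → F ≠ ⊥ → H ≤ normalizer (F : Set G) → H = normalizer (F : Set G)

theorem exists_data [Finite G] {Q : Subgroup G} {z : G} (hL : Large Q z) (hQ : IsPGroup 2 Q) {H : Subgroup G}
    (hH : IsMaximalTwoLocal H) : ∃ T Z : Subgroup G, Data Q z H T Z := by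
  have hnorm : ∀ F : Subgroup G, IsPGroup 2 F → F ≠ ⊥ → H ≤ normalizer (F : Set G) → H = normalizer (F : Set G) :=
    fun F hF hFb hHF => (hH.2 _ (isTwoLocal_normalizer hF hFb) hHF).symm
  have hT := pCoreOf_isPGroup H
  have hTb := pCoreOf_ne_bot_of_isTwoLocal hH.1
  have hNT := normalizer_pCoreOf_eq hH
  refine ⟨pCoreOf 2 H, omegaCenterOf (pCoreOf 2 H), hT, hTb, hNT.symm, ?_, omegaCenterOf_le _,
    omegaCenterOf_ne_bot hT hTb, fun a ha => by rw [← pow_two]; exact omegaCenterOf_pow ha, ?_, ?_, hnorm⟩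
  · apply hnorm _ (omegaCenterOf_isPGroup _) (omegaCenterOf_ne_bot hT hTb)
    exact (le_normalizer_pCoreOf H).trans (normalizer_le_normalizer_omegaCenterOf _)
  · intro a ha t ht
    exact (mem_centralizer_iff.1 (omegaCenterOf_le_centralizer _ ha) t ht).symm
  · rintro ⟨c, hc, g, rfl⟩ a ha hat
    have hc1 := mem_omegaCenterOf.1 hc
    have h1 := centralizer_le (large_conj hL g) (by
        rw [AA_eq_comap]
        exact hQ.comap_of_injective _ (MulAut.conj g).symm.injective) hT (by rw [hNT]) hc1.1 hc1.2.1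
    have h2 : a ∈ centralizer (pCoreOf 2 H : Set G) := by
      rw [mem_centralizer_iff]
      intro t ht
      exact (hat t ht).symm
    rw [mem_omegaCenterOf]
    exact ⟨h1 h2, h2, by rw [pow_two]; exact ha⟩

end Cfsg.Agent.R2.H10.Mon.Red
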