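import Cfsg.Agent.R2.H10.Mon.TwoA

/-!
# Assembly for S5539 (helper10)

* `two_a` : `Z` without conjugates of `z`;
* `pad` : a finite set of at most 7 2-local subgroups is contained in one of order exactly 7;
* `final` : the statement from five representatives for the case of a conjugate of `z` in `Z`.
-/

set_option autoImplicit false

namespace Cfsg.Agent.R2.H10.Mon.Top

open Subgroup Cfsg
open Cfsg.Agent.H251
open Cfsg.Agent.Co2Type.Quad
open Cfsg.Agent.R2.H4.Mon.Frm
open Cfsg.Agent.R2.H10.Mon.Red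
open Cfsg.Agent.R2.H10.Mon.TwoA

variable {G : Type*} [Group G]

/-- **The case without conjugates of `z`.** -/
theorem two_a {Q : Subgroup G} {z : G} {H T Z : Subgroup G} (A : AFacts z) (D : Data Q z H T Z)
    (hno : ∀ c ∈ Z, ¬ TwoB z c) :
    (∃ a, IsA z a ∧ H = normalizer ((closure {a} : Subgroup G) : Set G)) ∨
    ∃ t d, IsA z t ∧ IsA z d ∧ IsA z (t * d) ∧ t * d = d * t ∧
      H = normalizer ((closure {t, d} : Subgroup G) : Set G) := by
  have hA : ∀ a ∈ Z, a ≠ 1 → IsA z a := fun a ha h1 => ⟨D.sq a ha, h1, hno a ha⟩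
  have hc : ∀ a ∈ Z, ∀ b ∈ Z, a * b = b * a := fun a ha b hb => D.comm a ha b (D.hZT hb)
  have hne : ∀ a ∈ Z, ∀ b ∈ Z, a ≠ b → a * b ≠ 1 := by
    intro a ha b hb hab h
    apply hab
    calc a = a * b * b := by rw [mul_assoc, D.sq b hb, mul_one]
      _ = b := by rw [h, one_mul]
  obtain ⟨t, ht, ht1⟩ : ∃ t ∈ Z, t ≠ 1 := by
    by_contra h
    push Not at h
    exact D.hZb ((Subgroup.eq_bot_iff_forall _).2 h)
  by_cases h1 : ∀ d ∈ Z, d = 1 ∨ d = t
  · left
    refine ⟨t, hA t ht ht1, ?_⟩
    have e : closure {t} = Z := by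
      apply le_antisymm
      · rw [closure_le]
        rintro _ rfl
        exact ht
      · intro d hd
        rcases h1 d hd with rfl | rfl
        · exact one_mem _
        · exact subset_closure rfl
    rw [e]
    exact D.hNZ
  · right
    push Not at h1
    obtain ⟨d, hd, hd1, hdt⟩ := h1
    have htd := Z.mul_mem ht hd
    refine ⟨t, d, hA t ht ht1, hA d hd hd1, hA _ htd (hne t ht d hd hdt.symm), hc t ht d hd, ?_⟩
    have e : closure {t, d} = Z := by
      apply le_antisymm
      · rw [closure_le]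
        rintro x (rfl | rfl)
        · exact ht
        · exact hd
      · intro s hs
        have hm1 : t ∈ closure {t, d} := subset_closure (Or.inl rfl)
        have hm2 : d ∈ closure {t, d} := subset_closure (Or.inr rfl)
        by_cases hs1 : s = 1
        · rw [hs1]; exact one_mem _
        by_cases hst : s = t
        · rw [hst]; exact hm1
        by_cases hsd : s = d
        · rw [hsd]; exact hm2
        by_cases hstd : s = t * d
        · rw [hstd]; exact mul_mem hm1 hm2
        exfalso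
        have hds := Z.mul_mem hd hs
        refine A.pure t d s (hA t ht ht1) (hA d hd hd1) (hA s hs hs1) (hA _ htd (hne t ht d hd hdt.symm))
          (hA _ (Z.mul_mem ht hs) (hne t ht s hs (Ne.symm hst))) (hA _ hds (hne d hd s hs (Ne.symm hsd)))
          (hA _ (Z.mul_mem ht hds) (hne t ht _ hds ?_)) (hc t ht d hd) (hc t ht s hs) (hc d hd s hs)
        intro h
        apply hstd
        rw [h]
        calc s = (d * d) * s := by rw [D.sq d hd, one_mul]
          _ = d * s * d := by rw [hc (d * s) hds d hd]; group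
    rw [e]
    exact D.hNZ

/-- conjugates of normalizers -/
theorem normalizer_conj (g : G) (K : Subgroup G) :
    normalizer ((K.map (MulAut.conj g).toMonoidHom : Subgroup G) : Set G) =
      (normalizer (K : Set G)).map (MulAut.conj g).toMonoidHom := (cj_normalizer g K).symm

theorem closure_conj (g : G) (s : Set G) :
    (closure s).map (MulAut.conj g).toMonoidHom = closure ((fun x => g * x * g⁻¹) '' s) := by
  rw [MonoidHom.map_closure]
  rfl

/-- **Padding.** -/
theorem pad [Finite G] {S₀ : Finset (Subgroup G)} (h0 : S₀.card ≤ 7) (hS : ∀ H ∈ S₀, IsTwoLocal H)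
    (h7 : 7 ≤ Nat.card {H : Subgroup G // IsTwoLocal H}) :
    ∃ S : Finset (Subgroup G), S.card = 7 ∧ (∀ H ∈ S, IsTwoLocal H) ∧ S₀ ⊆ S := by
  classical
  have := Fintype.ofFinite (Subgroup G)
  set U : Finset (Subgroup G) := Finset.univ.filter IsTwoLocal with hU
  have hUc : 7 ≤ U.card := by
    rw [hU, ← Fintype.card_subtype, ← Nat.card_eq_fintype_card]
    exact h7
  have hSU : S₀ ⊆ U := by
    intro H hH
    rw [hU, Finset.mem_filter]
    exact ⟨Finset.mem_univ _, hS H hH⟩
  obtain ⟨S, h1, h2, h3⟩ := Finset.exists_subsuperset_card_eq hSU h0 hUc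
  refine ⟨S, h3, fun H hH => ?_, h1⟩
  have := h2 hH
  rw [hU, Finset.mem_filter] at this
  exact this.2

/-- Many 2-local subgroups: the centralisers of the conjugates of `z`. -/
theorem card_twoLocal [Finite G] {Q : Subgroup G} {z : G} (hL : Large Q z) :
    Nat.card {c : G // TwoB z c} ≤ Nat.card {H : Subgroup G // IsTwoLocal H} := by
  have h2 : ∀ c : G, TwoB z c → c * c = 1 ∧ c ≠ 1 := fun c hc => by
    have := large_QQ hL hc
    exact ⟨this.z_sq, this.z_ne⟩
  have hp : ∀ c : G, TwoB z c → IsPGroup 2 (closure {c} : Subgroup G) := by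
    intro c hc
    apply isPGroup_of_pow_two
    intro x hx
    rw [← Subgroup.zpowers_eq_closure, mem_zpowers_iff] at hx
    obtain ⟨k, rfl⟩ := hx
    rw [pow_two, ← zpow_add, ← two_mul, zpow_mul]
    have : c ^ (2 : ℤ) = 1 := by
      rw [zpow_ofNat, pow_two]; exact (h2 c hc).1
    rw [this, one_zpow]
  refine Nat.card_le_card_of_injective
    (fun c : {c : G // TwoB z c} => (⟨normalizer ((closure {(c : G)} : Subgroup G) : Set G), closure {(c : G)},
      hp c c.2, fun h => (h2 c c.2).2 ((mem_bot).1 (h ▸ subset_closure rfl)), rfl⟩ :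
      {H : Subgroup G // IsTwoLocal H})) ?_
  rintro ⟨c, hc⟩ ⟨d, hd⟩ h
  have h1 : normalizer ((closure {c} : Subgroup G) : Set G) = normalizer ((closure {d} : Subgroup G) : Set G) :=
    congrArg Subtype.val h
  -- `N(⟨c⟩) = C(c)`
  have hN : ∀ c : G, TwoB z c → ∀ g : G, g ∈ normalizer ((closure {c} : Subgroup G) : Set G) ↔ g * c = c * g := by
    intro c hc g
    rw [← cj_eq_self_iff]
    show (closure {c}).map (MulAut.conj g).toMonoidHom = _ ↔ _
    rw [closure_conj, Set.image_singleton]
    constructor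
    · intro h3
      have h4 : g * c * g⁻¹ ∈ closure {c} := by rw [← h3]; exact subset_closure rfl
      rw [← Subgroup.zpowers_eq_closure, mem_zpowers_iff] at h4
      obtain ⟨k, hk⟩ := h4
      rcases Int.even_or_odd' k with ⟨m, rfl | rfl⟩
      · exfalso
        rw [zpow_mul, zpow_ofNat, pow_two, (h2 c hc).1, one_zpow] at hk
        apply (h2 c hc).2
        calc c = g⁻¹ * (g * c * g⁻¹) * g := by group
          _ = 1 := by rw [← hk]; group
      · rw [zpow_add, zpow_mul, zpow_ofNat, pow_two, (h2 c hc).1, one_zpow, one_mul, zpow_one] at hk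
        exact (mul_inv_eq_iff_eq_mul.1 hk.symm)
    · intro h3
      have : g * c * g⁻¹ = c := mul_inv_eq_iff_eq_mul.2 h3
      rw [this]
  -- `d` commutes with `Q_c`
  have hLc := large_QQ hL hc
  have hcd : d * c = c * d := by
    have h3 : d ∈ normalizer ((closure {d} : Subgroup G) : Set G) := (hN d hd d).2 rfl
    rw [← h1] at h3
    exact (hN c hc d).1 h3
  have hdQ : ∀ x ∈ QQ Q z c, d * x = x * d := by
    intro x hx
    have h3 := (hN c hc x).2 (hLc.comm_z x hx)
    rw [h1] at h3
    exact ((hN d hd x).1 h3).symm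
  rcases hLc.cent d (hLc.self d hcd hdQ) hdQ with h3 | h3
  · exact absurd h3 (h2 d hd).2
  · exact Subtype.ext h3.symm

/-- **The final assembly.** -/
theorem final [Finite G] {Q : Subgroup G} {z : G} (hL : Large Q z) (hQ : IsPGroup 2 Q) (A : AFacts z)
    (h7 : 7 ≤ Nat.card {c : G // TwoB z c}) (R : Finset (Subgroup G)) (hR5 : R.card ≤ 5)
    (hR : ∀ F ∈ R, IsPGroup 2 F ∧ F ≠ ⊥)
    (hB : ∀ H T Z : Subgroup G, Data Q z H T Z → (∃ c ∈ Z, TwoB z c) →
      ∃ F ∈ R, ∃ g : G, H = normalizer ((F.map (MulAut.conj g).toMonoidHom : Subgroup G) : Set G)) :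
    ∃ S : Finset (Subgroup G), S.card = 7 ∧ (∀ H ∈ S, IsTwoLocal H) ∧
      ∀ H : Subgroup G, IsMaximalTwoLocal H → ∃ H₀ ∈ S, ∃ g : G, H = H₀.map (MulAut.conj g).toMonoidHom := by
  classical
  have hsub : ∀ a : G, IsA z a → IsPGroup 2 (closure {a} : Subgroup G) ∧ (closure {a} : Subgroup G) ≠ ⊥ := by
    intro a ha
    refine ⟨?_, fun h => ha.2.1 ((mem_bot).1 (h ▸ subset_closure rfl))⟩
    apply isPGroup_of_pow_two
    intro x hx
    rw [← Subgroup.zpowers_eq_closure, mem_zpowers_iff] at hx
    obtain ⟨k, rfl⟩ := hx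
    rw [pow_two, ← zpow_add, ← two_mul, zpow_mul]
    have : a ^ (2 : ℤ) = 1 := by
      rw [zpow_ofNat, pow_two]; exact ha.1
    rw [this, one_zpow]
  have hpair : ∀ t d : G, IsA z t → IsA z d → t * d = d * t →
      IsPGroup 2 (closure {t, d} : Subgroup G) ∧ (closure {t, d} : Subgroup G) ≠ ⊥ := by
    intro t d ht hd hc
    refine ⟨?_, fun h => ht.2.1 ((mem_bot).1 (h ▸ subset_closure (Or.inl rfl)))⟩
    have hcomm : ∀ x ∈ ({t, d} : Set G), ∀ y ∈ ({t, d} : Set G), x * y = y * x := by
      rintro x (rfl | rfl) y (rfl | rfl)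
      · rfl
      · exact hc
      · exact hc.symm
      · rfl
    have hsq : ∀ x ∈ closure ({t, d} : Set G), x ^ 2 = 1 := by
      intro x hx
      refine Subgroup.closure_induction (p := fun y _ => y ^ 2 = 1) ?_ ?_ ?_ ?_ hx
      · rintro y (rfl | rfl)
        · rw [pow_two]; exact ht.1
        · rw [pow_two]; exact hd.1
      · exact one_pow 2
      · intro a b ha hb ha2 hb2
        have hab : Commute a b := by
          have h1 : closure ({t, d} : Set G) ≤ centralizer ((closure ({t, d} : Set G) : Subgroup G) : Set G) := by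
            rw [closure_le]
            intro x hx
            show x ∈ centralizer _
            rw [Subgroup.centralizer_closure, mem_centralizer_iff]
            intro y hy
            exact hcomm y hy x hx
          exact (mem_centralizer_iff.1 (h1 ha) b hb).symm
        rw [hab.mul_pow, ha2, hb2, one_mul]
      · intro a _ ha2
        rw [inv_pow, ha2, inv_one]
    exact isPGroup_of_pow_two hsq
  -- representatives for the class 2A
  obtain ⟨S₁, hS₁c, hS₁, hA₁⟩ : ∃ S₁ : Finset (Subgroup G), S₁.card ≤ 1 ∧ (∀ F ∈ S₁, IsPGroup 2 F ∧ F ≠ ⊥) ∧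
      ∀ a, IsA z a → ∃ F ∈ S₁, ∃ g : G, closure {a} = F.map (MulAut.conj g).toMonoidHom := by
    by_cases h : ∃ a, IsA z a
    · obtain ⟨a, ha⟩ := h
      refine ⟨{closure {a}}, (Finset.card_singleton _).le, ?_, ?_⟩
      · intro F hF
        rw [Finset.mem_singleton] at hF
        rw [hF]; exact hsub a ha
      · intro b hb
        obtain ⟨g, hg⟩ := A.conj a b ha hb
        refine ⟨_, Finset.mem_singleton_self _, g, ?_⟩
        rw [closure_conj, Set.image_singleton, hg]
    · push Not at h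
      exact ⟨∅, by simp, by simp, fun a ha => absurd ha (h a)⟩
  obtain ⟨S₂, hS₂c, hS₂, hA₂⟩ : ∃ S₂ : Finset (Subgroup G), S₂.card ≤ 1 ∧ (∀ F ∈ S₂, IsPGroup 2 F ∧ F ≠ ⊥) ∧
      ∀ t d, IsA z t → IsA z d → IsA z (t * d) → t * d = d * t →
        ∃ F ∈ S₂, ∃ g : G, closure {t, d} = F.map (MulAut.conj g).toMonoidHom := by
    by_cases h : ∃ t d, IsA z t ∧ IsA z d ∧ IsA z (t * d) ∧ t * d = d * t
    · obtain ⟨t, d, ht, hd, htd, hc⟩ := h
      refine ⟨{closure {t, d}}, (Finset.card_singleton _).le, ?_, ?_⟩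
      · intro F hF
        rw [Finset.mem_singleton] at hF
        rw [hF]; exact hpair t d ht hd hc
      · intro t' d' ht' hd' htd' hc'
        obtain ⟨g, hg, hg'⟩ := A.pair t d t' d' ht hd htd hc ht' hd' htd' hc'
        refine ⟨_, Finset.mem_singleton_self _, g, ?_⟩
        rw [closure_conj, Set.image_pair, hg, hg']
    · push Not at h
      exact ⟨∅, by simp, by simp, fun t d ht hd htd hc => absurd hc (h t d ht hd htd)⟩
  -- all representatives
  set S := (R ∪ (S₁ ∪ S₂)).image (fun F : Subgroup G => normalizer (F : Set G)) with hS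
  have hall : ∀ F ∈ R ∪ (S₁ ∪ S₂), IsPGroup 2 F ∧ F ≠ ⊥ := by
    intro F hF
    rw [Finset.mem_union, Finset.mem_union] at hF
    rcases hF with h | h | h
    · exact hR F h
    · exact hS₁ F h
    · exact hS₂ F h
  obtain ⟨S', hS'c, hS', hSS⟩ := pad (S₀ := S) (by
      have h1 : S.card ≤ (R ∪ (S₁ ∪ S₂)).card := Finset.card_image_le
      have h2 := Finset.card_union_le R (S₁ ∪ S₂)
      have h3 := Finset.card_union_le S₁ S₂
      omega)
    (by
      intro H hH
      rw [hS, Finset.mem_image] at hH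
      obtain ⟨F, hF, rfl⟩ := hH
      exact isTwoLocal_normalizer (hall F hF).1 (hall F hF).2) (h7.trans (card_twoLocal hL))
  refine ⟨S', hS'c, hS', fun H hH => ?_⟩
  obtain ⟨T, Z, D⟩ := exists_data hL hQ hH
  obtain ⟨F, hF, g, hg⟩ : ∃ F ∈ R ∪ (S₁ ∪ S₂), ∃ g : G,
      H = normalizer ((F.map (MulAut.conj g).toMonoidHom : Subgroup G) : Set G) := by
    by_cases hc : ∃ c ∈ Z, TwoB z c
    · obtain ⟨F, hF, g, hg⟩ := hB H T Z D hc
      exact ⟨F, Finset.mem_union_left _ hF, g, hg⟩
    · push Not at hc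
      rcases two_a A D hc with ⟨a, ha, hH⟩ | ⟨t, d, ht, hd, htd, hcc, hH⟩
      · obtain ⟨F, hF, g, hg⟩ := hA₁ a ha
        exact ⟨F, Finset.mem_union_right _ (Finset.mem_union_left _ hF), g, by rw [← hg]; exact hH⟩
      · obtain ⟨F, hF, g, hg⟩ := hA₂ t d ht hd htd hcc
        exact ⟨F, Finset.mem_union_right _ (Finset.mem_union_right _ hF), g, by rw [← hg]; exact hH⟩
  refine ⟨normalizer (F : Set G), hSS ?_, g, ?_⟩
  · rw [hS, Finset.mem_image]
    exact ⟨F, hF, rfl⟩
  · rw [hg, normalizer_conj]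

end Cfsg.Agent.R2.H10.Mon.Top
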