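import Cfsg.Agent.MThirteen.TwoA
import Cfsg.Agent.R2.H10.Mon.Red

/-!
# The involutions of the class `2A` of the Monster (helper10)

`AFacts z` : the involutions which are not conjugates of `z` form one class, the pairs generating a four-group of such
involutions form one orbit, no elementary abelian subgroup of order 8 consists of such involutions.

* `afacts_model` : `AFacts` for the group of the model; `afacts_map` : transport.
* `Data.two_a` : the case of a maximal 2-local subgroup with `Z` without conjugates of `z`.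
-/

set_option autoImplicit false
set_option maxRecDepth 100000

namespace Cfsg.Agent.R2.H10.Mon.TwoA

open Subgroup Cfsg
open Cfsg.Agent.R2.H4.Mon.Frm (TwoB twoB_conj_iff)

/-- an involution which is not a conjugate of `z` -/
def IsA {G : Type*} [Group G] (z a : G) : Prop := a * a = 1 ∧ a ≠ 1 ∧ ¬ TwoB z a

/-- the facts on the class `2A` -/
structure AFacts {G : Type*} [Group G] (z : G) : Prop where
  conj : ∀ a b : G, IsA z a → IsA z b → ∃ g : G, g * a * g⁻¹ = b
  pair : ∀ t d t' d' : G, IsA z t → IsA z d → IsA z (t * d) → t * d = d * t →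
    IsA z t' → IsA z d' → IsA z (t' * d') → t' * d' = d' * t' → ∃ g : G, g * t * g⁻¹ = t' ∧ g * d * g⁻¹ = d'
  pure : ∀ t d s : G, IsA z t → IsA z d → IsA z s → IsA z (t * d) → IsA z (t * s) → IsA z (d * s) →
    IsA z (t * (d * s)) → t * d = d * t → t * s = s * t → d * s = s * d → False

section model

open Cfsg.Agent.MonsterX Cfsg.Agent.MonsterX.InstData Cfsg.Agent.MonsterX.MainPack Cfsg.Agent.MonsterU
open Cfsg.Agent.MonsterP Cfsg.Agent.MonsterN Cfsg.Agent.LThree
open Cfsg.Agent.MonsterX.MainBasic Cfsg.Agent.MonsterX.MainSimple Cfsg.Agent.MonsterX.Model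
open Cfsg.Agent.LThreeB.Row (TA)
open Cfsg.Agent.MThirteen Cfsg.Agent.MThirteen.TwoARow

theorem isA_of_ta {a : ↥InstData.M.G} (ha : TA a) : IsA KDone.K.z a := by
  refine ⟨?_, ?_, ?_⟩
  · rw [← pow_two, ← Row.ta_order ha, pow_orderOf_eq_one]
  · intro h1
    have := Row.ta_order ha
    rw [h1, orderOf_one] at this
    norm_num at this
  · rintro ⟨g, hg⟩
    refine Row.ta_ne ha g⁻¹ ?_
    rw [← hg]; group

theorem ta_of_isA {a : ↥InstData.M.G} (ha : IsA KDone.K.z a) : TA a := by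
  rcases MFive.Row.two a ha.1 ha.2.1 with h | ⟨g, hg⟩
  · exact absurd h ha.2.2
  · exact isConj_iff.2 ⟨g, hg⟩

theorem afacts_model : AFacts (KDone.K.z : ↥InstData.M.G) where
  conj a b ha hb := by
    obtain ⟨g, hg⟩ := exists_conj (ta_of_isA ha)
    obtain ⟨k, hk⟩ := exists_conj (ta_of_isA hb)
    refine ⟨k⁻¹ * g, ?_⟩
    calc k⁻¹ * g * a * (k⁻¹ * g)⁻¹ = k⁻¹ * (g * a * g⁻¹) * k := by group
      _ = k⁻¹ * (k * b * k⁻¹) * k := by rw [hg, hk]
      _ = b := by group
  pair t d t' d' ht hd htd ctd ht' hd' htd' ctd' := by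
    obtain ⟨f₁, f₂, f₃, f₄, Fc, hcz, hcd, -⟩ := FusInst.exists_facts LitFin.all KDone.lnk KDone.lft
      (TauInst.tauHyp (Final.cent InstanceFinal.mOrbit Instance.mTrans)) KDone.lnk.x₀_mem
    have hzm : KDone.K.z ∈ LitInst.BB KDone.K KLinkInst.x₀ := mem_centralizer_singleton_iff.2 (by
      show KDone.K.ι KDone.K.zc * KDone.K.ι KLinkInst.x₀ = KDone.K.ι KLinkInst.x₀ * KDone.K.ι KDone.K.zc
      rw [← map_mul, ← map_mul, KDone.K.zc_comm])
    have hzc : ∀ u : LitInst.BB KDone.K KLinkInst.x₀, IsConj (LitInst.tb KDone.K KLinkInst.x₀ * (f₁ * f₂)) u →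
        IsConj KDone.K.z (u : ↥InstData.M.G) := fun u hu =>
      ((LitInst.BB KDone.K KLinkInst.x₀).subtype.map_isConj (hcz hzm)).symm.trans
        ((LitInst.BB KDone.K KLinkInst.x₀).subtype.map_isConj hu)
    have key : ∀ t d : ↥InstData.M.G, IsA KDone.K.z t → IsA KDone.K.z d → IsA KDone.K.z (t * d) → t * d = d * t →
        ∃ g c : ↥InstData.M.G, ∃ w : LitInst.BB KDone.K KLinkInst.x₀, g * t * g⁻¹ = KDone.K.ι KLinkInst.x₀ ∧
          ((w : LitInst.BB KDone.K KLinkInst.x₀) : ↥InstData.M.G) = g * d * g⁻¹ ∧ IsConj f₁ w := by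
      intro t d ht hd htd ctd
      obtain ⟨g, hg⟩ := exists_conj (ta_of_isA ht)
      have hm : g * d * g⁻¹ ∈ LitInst.BB KDone.K KLinkInst.x₀ := by
        refine mem_centralizer_singleton_iff.2 ?_
        rw [← hg]
        calc g * d * g⁻¹ * (g * t * g⁻¹) = g * (d * t) * g⁻¹ := by group
          _ = g * (t * d) * g⁻¹ := by rw [ctd]
          _ = _ := by group
      refine ⟨g, 1, ⟨_, hm⟩, hg, rfl, ?_⟩
      have hnz : ∀ {a : ↥InstData.M.G}, IsA KDone.K.z a → ¬ IsConj KDone.K.z (g * a * g⁻¹) := by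
        intro a ha hz
        obtain ⟨u, hu⟩ := isConj_iff.1 hz
        refine ha.2.2 ⟨g⁻¹ * u, ?_⟩
        calc g⁻¹ * u * KDone.K.z * (g⁻¹ * u)⁻¹ = g⁻¹ * (u * KDone.K.z * u⁻¹) * g := by group
          _ = a := by rw [hu]; group
      have e : ((LitInst.tb KDone.K KLinkInst.x₀ * ⟨g * d * g⁻¹, hm⟩ :
          LitInst.BB KDone.K KLinkInst.x₀) : ↥InstData.M.G) = g * (t * d) * g⁻¹ := by
        show KDone.K.ι KLinkInst.x₀ * (g * d * g⁻¹) = _
        rw [← hg]
        group
      have h2 : (⟨g * d * g⁻¹, hm⟩ : LitInst.BB KDone.K KLinkInst.x₀) * ⟨g * d * g⁻¹, hm⟩ = 1 := by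
        apply Subtype.ext
        show g * d * g⁻¹ * (g * d * g⁻¹) = 1
        calc g * d * g⁻¹ * (g * d * g⁻¹) = g * (d * d) * g⁻¹ := by group
          _ = 1 := by rw [hd.1]; group
      have h3 : (⟨g * d * g⁻¹, hm⟩ : LitInst.BB KDone.K KLinkInst.x₀) ≠ 1 := by
        intro h
        have h1 : g * d * g⁻¹ = 1 := congrArg Subtype.val h
        apply hd.2.1
        calc d = g⁻¹ * (g * d * g⁻¹) * g := by group
          _ = 1 := by rw [h1]; group
      have h4 : (⟨g * d * g⁻¹, hm⟩ : LitInst.BB KDone.K KLinkInst.x₀) ≠ LitInst.tb KDone.K KLinkInst.x₀ := by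
        intro h
        have h1 : g * d * g⁻¹ = KDone.K.ι KLinkInst.x₀ := congrArg Subtype.val h
        rw [← hg] at h1
        have h5 : d = t := mul_left_cancel (mul_right_cancel h1)
        apply htd.2.1
        rw [h5, ht.1]
      rcases Fc.classes _ h2 h3 h4 with h | h | h | h
      · exact h
      · exfalso
        have h5 := hzc _ (FusionType.conj_mul_t Fc.cen h)
        rw [e] at h5
        exact hnz htd h5
      · exact absurd (hzc _ h) (hnz hd)
      · exact absurd (hcd.trans ((LitInst.BB KDone.K KLinkInst.x₀).subtype.map_isConj h)) (hnz hd)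
    obtain ⟨g, -, w, hg, hw, hfw⟩ := key t d ht hd htd ctd
    obtain ⟨g', -, w', hg', hw', hfw'⟩ := key t' d' ht' hd' htd' ctd'
    obtain ⟨c, hc⟩ := isConj_iff.1 (hfw.symm.trans hfw')
    have hc' : (c : ↥InstData.M.G) * (g * d * g⁻¹) * (c : ↥InstData.M.G)⁻¹ = g' * d' * g'⁻¹ := by
      rw [← hw, ← hw', ← hc]; rfl
    have hct : (c : ↥InstData.M.G) * KDone.K.ι KLinkInst.x₀ * (c : ↥InstData.M.G)⁻¹ = KDone.K.ι KLinkInst.x₀ := by
      rw [mem_centralizer_singleton_iff.1 c.2]; group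
    refine ⟨g'⁻¹ * c * g, ?_, ?_⟩
    · calc g'⁻¹ * c * g * t * (g'⁻¹ * c * g)⁻¹ = g'⁻¹ * (c * (g * t * g⁻¹) * (c : ↥InstData.M.G)⁻¹) * g' := by group
        _ = g'⁻¹ * (g' * t' * g'⁻¹) * g' := by rw [hg, hct, ← hg']
        _ = t' := by group
    · calc g'⁻¹ * c * g * d * (g'⁻¹ * c * g)⁻¹ = g'⁻¹ * (c * (g * d * g⁻¹) * (c : ↥InstData.M.G)⁻¹) * g' := by group
        _ = g'⁻¹ * (g' * d' * g'⁻¹) * g' := by rw [hc']
        _ = d' := by group
  pure t d s ht hd hs htd hts hds htds ctd cts cds :=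
    no_pure (ta_of_isA ht) (ta_of_isA hd) (ta_of_isA hs) (ta_of_isA htd) (ta_of_isA hts) (ta_of_isA hds)
      (ta_of_isA htds) ctd cts cds

end model

section transport

variable {G G' : Type*} [Group G] [Group G']

theorem twoB_map (e : G ≃* G') {z a : G} : TwoB (e z) (e a) ↔ TwoB z a := by
  constructor
  · rintro ⟨g, hg⟩
    refine ⟨e.symm g, e.injective ?_⟩
    rw [map_mul, map_mul, map_inv, e.apply_symm_apply, hg]
  · rintro ⟨g, hg⟩
    exact ⟨e g, by rw [← map_inv, ← map_mul, ← map_mul, hg]⟩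

theorem isA_map (e : G ≃* G') {z a : G} : IsA (e z) (e a) ↔ IsA z a := by
  unfold IsA
  rw [twoB_map, ← map_mul, map_eq_one_iff e e.injective, Ne, map_eq_one_iff e e.injective]

theorem afacts_map (e : G ≃* G') {z : G} (h : AFacts z) : AFacts (e z) := by
  have hs : ∀ a : G', e (e.symm a) = a := e.apply_symm_apply
  have hm : ∀ a b : G', e.symm a * e.symm b = e.symm (a * b) := fun a b => (map_mul _ _ _).symm
  have hA : ∀ a : G', IsA (e z) a ↔ IsA z (e.symm a) := fun a => by rw [← isA_map e, hs]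
  refine ⟨fun a b ha hb => ?_, fun t d t' d' ht hd htd ctd ht' hd' htd' ctd' => ?_,
    fun t d s ht hd hss htd hts hds htds ctd cts cds => ?_⟩
  · obtain ⟨g, hg⟩ := h.conj _ _ ((hA a).1 ha) ((hA b).1 hb)
    refine ⟨e g, ?_⟩
    have := congrArg e hg
    rwa [map_mul, map_mul, map_inv, hs, hs] at this
  · obtain ⟨g, hg, hg'⟩ := h.pair _ _ _ _ ((hA t).1 ht) ((hA d).1 hd) (by rw [hm]; exact (hA _).1 htd)
      (by rw [hm, hm, ctd]) ((hA t').1 ht') ((hA d').1 hd') (by rw [hm]; exact (hA _).1 htd') (by rw [hm, hm, ctd'])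
    refine ⟨e g, ?_, ?_⟩
    · have := congrArg e hg
      rwa [map_mul, map_mul, map_inv, hs, hs] at this
    · have := congrArg e hg'
      rwa [map_mul, map_mul, map_inv, hs, hs] at this
  · exact h.pure _ _ _ ((hA t).1 ht) ((hA d).1 hd) ((hA s).1 hss) (by rw [hm]; exact (hA _).1 htd)
      (by rw [hm]; exact (hA _).1 hts) (by rw [hm]; exact (hA _).1 hds) (by rw [hm, hm]; exact (hA _).1 htds)
      (by rw [hm, hm, ctd]) (by rw [hm, hm, cts]) (by rw [hm, hm, cds])

/-- change of the base point -/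
theorem afacts_of_twoB {z c : G} (h : AFacts z) (hc : TwoB z c) : AFacts c := by
  have h1 : ∀ a : G, TwoB c a ↔ TwoB z a := fun a => ⟨fun h => hc.trans h, fun h => hc.symm.trans h⟩
  have h2 : ∀ a : G, IsA c a ↔ IsA z a := fun a => by unfold IsA; rw [h1]
  refine ⟨?_, ?_, ?_⟩
  · simp only [h2]; exact h.conj
  · simp only [h2]; exact h.pair
  · simp only [h2]; exact h.pure

end transport

end Cfsg.Agent.R2.H10.Mon.TwoA
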